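import Mathlib.AlgebraicGeometry.Morphisms.WeaklyEtale
import Mathlib.AlgebraicGeometry.Morphisms.FormallyUnramified
import Mathlib.RingTheory.Etale.Weakly
import Mathlib.RingTheory.Ideal.Pure
import Mathlib.RingTheory.Unramified.Field
import Mathlib.RingTheory.TensorProduct.Free

/-!
Weakly étale morphisms and algebras.
-/

open CategoryTheory AlgebraicGeometry Limits TensorProduct

universe u

namespace Groth.Agent.H56.WeaklyEtale

/-- The kernel of a flat surjective ring map is pure. -/
theorem pure_ker {A B : Type*} [CommRing A] [CommRing B] (f : A →+* B) (hf : f.Flat)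
    (hs : Function.Surjective f) : (RingHom.ker f).Pure := by
  let := f.toAlgebra
  have : Module.Flat A B := hf
  exact Module.Flat.of_linearEquiv
    (Ideal.quotientKerAlgEquivOfSurjective (f := Algebra.ofId A B) hs).toLinearEquiv

section Algebra

variable (R S : Type u) [CommRing R] [CommRing S] [Algebra R S]

theorem lmul'_surjective :
    Function.Surjective (Algebra.TensorProduct.lmul' R (S := S)) :=
  fun x => ⟨x ⊗ₜ 1, by simp⟩

theorem pure_kaehlerIdeal [Algebra.WeaklyEtale R S] : (KaehlerDifferential.ideal R S).Pure :=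
  pure_ker _ (Algebra.WeaklyEtale.flat_lmul' R S) (lmul'_surjective R S)

theorem formallyUnramified [Algebra.WeaklyEtale R S] : Algebra.FormallyUnramified R S := by
  have := pure_kaehlerIdeal R S
  exact ⟨(Ideal.cotangent_subsingleton_iff _).mpr (Ideal.isIdempotentElem_of_pure _)⟩

end Algebra

variable {X Y : Scheme.{u}}

set_option backward.isDefEq.respectTransparency.types false in
theorem SpecMap_iff {R S : CommRingCat.{u}} (φ : R ⟶ S) :
    AlgebraicGeometry.WeaklyEtale (Spec.map φ) ↔
      (letI := φ.hom.toAlgebra; Algebra.WeaklyEtale R S) := by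
  let := φ.hom.toAlgebra
  have hd : Flat (pullback.diagonal (Spec.map φ)) ↔
      (Algebra.TensorProduct.lmul' R (S := S)).Flat := by
    have e : pullback.diagonal (Spec.map φ) =
        Spec.map (CommRingCat.ofHom (Algebra.TensorProduct.lmul' R (S := S)).toRingHom) ≫
          (pullbackSpecIso R S S).inv := AlgebraicGeometry.diagonal_SpecMap R S
    rw [e, MorphismProperty.cancel_right_of_respectsIso (P := @Flat),
      HasRingHomProperty.Spec_iff (P := @Flat)]
    rfl
  rw [AlgebraicGeometry.weaklyEtale_iff, HasRingHomProperty.Spec_iff (P := @Flat), hd,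
    Algebra.weaklyEtale_iff]
  rfl

theorem resLE_iff (f : X ⟶ Y) {U : X.Opens} {V : Y.Opens} (hU : IsAffineOpen U)
    (hV : IsAffineOpen V) (e : U ≤ f ⁻¹ᵁ V) :
    AlgebraicGeometry.WeaklyEtale (f.resLE V U e) ↔
      (letI := (f.appLE V U e).hom.toAlgebra; Algebra.WeaklyEtale Γ(Y, V) Γ(X, U)) := by
  have key : Spec.map (f.appLE V U e) = hU.isoSpec.inv ≫ f.resLE V U e ≫ hV.isoSpec.hom := by
    rw [← cancel_mono hV.fromSpec, IsAffineOpen.SpecMap_appLE_fromSpec f hV hU e]
    simp only [IsAffineOpen.fromSpec, Category.assoc, Iso.hom_inv_id_assoc, Scheme.Hom.resLE_comp_ι]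
  rw [← SpecMap_iff, key, MorphismProperty.cancel_left_of_respectsIso
    (P := @AlgebraicGeometry.WeaklyEtale), MorphismProperty.cancel_right_of_respectsIso
    (P := @AlgebraicGeometry.WeaklyEtale)]

theorem iff_forall_affineOpens (f : X ⟶ Y) :
    AlgebraicGeometry.WeaklyEtale f ↔
      ∀ (U : X.Opens) (V : Y.Opens) (_ : IsAffineOpen U) (_ : IsAffineOpen V) (e : U ≤ f ⁻¹ᵁ V),
        (letI := (f.appLE V U e).hom.toAlgebra; Algebra.WeaklyEtale Γ(Y, V) Γ(X, U)) := by
  refine ⟨fun _ U V hU hV e => (resLE_iff f hU hV e).mp inferInstance, fun h => ?_⟩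
  rw [IsZariskiLocalAtTarget.iff_of_iSup_eq_top (P := @AlgebraicGeometry.WeaklyEtale)
    (fun V : Y.affineOpens => (V : Y.Opens)) (iSup_affineOpens_eq_top Y)]
  intro V
  rw [IsZariskiLocalAtSource.iff_of_openCover (P := @AlgebraicGeometry.WeaklyEtale)
    (Scheme.openCoverOfIsOpenCover _ _ (iSup_affineOpens_eq_top _))]
  rintro ⟨(U : Scheme.Opens (f ⁻¹ᵁ (V : Y.Opens)).toScheme), hU⟩
  let W := (f ⁻¹ᵁ (V : Y.Opens)).ι ''ᵁ U
  have hW : IsAffineOpen W := hU.image_of_isOpenImmersion (f ⁻¹ᵁ (V : Y.Opens)).ι
  have e : W ≤ f ⁻¹ᵁ (V : Y.Opens) := by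
    rintro _ ⟨x, -, rfl⟩
    exact x.2
  have := (resLE_iff f hW V.2 e).mpr (h W V hW V.2 e)
  show AlgebraicGeometry.WeaklyEtale (U.ι ≫ f ∣_ (V : Y.Opens))
  rw [← MorphismProperty.cancel_left_of_respectsIso (P := @AlgebraicGeometry.WeaklyEtale)
    ((f ⁻¹ᵁ (V : Y.Opens)).ι.isoImage U).inv]
  convert this using 1
  rw [← cancel_mono (Scheme.Opens.ι _)]
  simp [W]

theorem formallyUnramified_of_weaklyEtale (f : X ⟶ Y) [AlgebraicGeometry.WeaklyEtale f] :
    FormallyUnramified f := by
  refine ⟨fun {V} hV {U} hU e => ?_⟩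
  let := (f.appLE V U e).hom.toAlgebra
  have := (iff_forall_affineOpens f).mp ‹_› U V hU hV e
  exact formallyUnramified Γ(Y, V) Γ(X, U)

/-- A weakly étale field extension is separable. -/
theorem isSeparable_field (K L : Type u) [Field K] [Field L] [Algebra K L]
    [Algebra.WeaklyEtale K L] : Algebra.IsSeparable K L := by
  refine ⟨fun t => ?_⟩
  have := pure_kaehlerIdeal K L
  let F := IntermediateField.adjoin K ({t} : Set L)
  let μ := Algebra.TensorProduct.lmul' K (S := L)
  let ν := Algebra.TensorProduct.lmul' K (S := F)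
  let ι : F ⊗[K] F →ₐ[K] L ⊗[K] L := Algebra.TensorProduct.map F.val F.val
  have hμι : ∀ x, μ (ι x) = F.val (ν x) := by
    intro x
    induction x with
    | zero => simp
    | tmul a b => simp [μ, ν, ι]
    | add a b ha hb => simp [ha, hb]
  have key : ∀ x ∈ KaehlerDifferential.ideal K F, ∃ e, e * x = 0 ∧ ν e = 1 := by
    intro x hx
    obtain ⟨i, hi, hxi⟩ := Ideal.exists_eq_mul_of_pure (I := KaehlerDifferential.ideal K L)
      (x := ι x) (by rw [RingHom.mem_ker] at hx ⊢; show μ (ι x) = 0; rw [hμι]; simp [ν, hx])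
    let B := Module.Free.chooseBasis F L
    by_contra hcon
    simp only [not_exists, not_and] at hcon
    have hzero : ∀ e, e * x = 0 → ν e = 0 := by
      intro e he
      by_contra hne
      refine hcon (((ν e)⁻¹ ⊗ₜ[K] (1 : F)) * e) (by rw [mul_assoc, he, mul_zero]) ?_
      rw [map_mul]
      simp only [ν] at hne ⊢
      simp [inv_mul_cancel₀ hne]
    have hy : (1 - i) * ι x = 0 := by rw [sub_mul, one_mul, mul_comm i, ← hxi, sub_self]
    -- the coordinates of the image of `1 - i` in `L ⊗[F] L` vanish
    let φ (a : Module.Free.ChooseBasisIndex F L) : L →ₗ[K] F := (B.coord a).restrictScalars K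
    have hφ : ∀ a b, TensorProduct.map (φ a) (φ b) (1 - i) * x = 0 := by
      intro a b
      have : ∀ (y : L ⊗[K] L) (z : F ⊗[K] F),
          TensorProduct.map (φ a) (φ b) (y * ι z) = TensorProduct.map (φ a) (φ b) y * z := by
        intro y z
        induction z with
        | zero => simp
        | add c d hc hd => simp [mul_add, hc, hd]
        | tmul c d =>
          induction y with
          | zero => simp
          | add c' d' hc hd => simp [add_mul, hc, hd]
          | tmul p q =>
            have h₁ : φ a (p * c) = φ a p * c := by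
              rw [mul_comm p, mul_comm (φ a p)]; exact (B.coord a).map_smul c p
            have h₂ : φ b (q * d) = φ b q * d := by
              rw [mul_comm q, mul_comm (φ b q)]; exact (B.coord b).map_smul d q
            simp [ι, Algebra.TensorProduct.tmul_mul_tmul, h₁, h₂]
      rw [← this, hy, map_zero]
    let π : L ⊗[K] L →ₗ[K] L ⊗[F] L :=
      (TensorProduct.mapOfCompatibleSMul F K K L L).restrictScalars K
    have hπ : ∀ (y : L ⊗[K] L) a b,
        (B.tensorProduct B).repr (π y) (a, b) = ν (TensorProduct.map (φ a) (φ b) y) := by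
      intro y a b
      induction y with
      | zero => simp
      | add c d hc hd => simp [hc, hd]
      | tmul p q =>
        simp [π, φ, ν, Module.Basis.tensorProduct_repr_tmul_apply, mul_comm]
    have hμπ : ∀ y : L ⊗[K] L, μ y = Algebra.TensorProduct.lmul' F (S := L) (π y) := by
      intro y
      induction y with
      | zero => simp
      | add c d hc hd => simp [hc, hd]
      | tmul p q => simp [μ, π]
    have : π (1 - i) = 0 := by
      refine (B.tensorProduct B).repr.injective (Finsupp.ext fun ⟨a, b⟩ => ?_)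
      rw [hπ, hzero _ (hφ a b)]
      simp
    have h1 : μ (1 - i) = 1 := by
      have : μ i = 0 := hi
      rw [map_sub, map_one, this, sub_zero]
    rw [hμπ, this, map_zero] at h1
    exact zero_ne_one h1
  have : Algebra.FormallyUnramified K F := by
    refine ⟨(Ideal.cotangent_subsingleton_iff _).mpr (le_antisymm Ideal.mul_le_left fun x hx => ?_)⟩
    obtain ⟨e, he, he1⟩ := key x hx
    have h : x = (1 - e) * x := by rw [sub_mul, he, one_mul, sub_zero]
    rw [h]
    exact Ideal.mul_mem_mul (by
      rw [RingHom.mem_ker]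
      show ν (1 - e) = 0
      rw [map_sub, map_one, he1, sub_self]) hx
  have : Algebra.EssFiniteType K F := IntermediateField.essFiniteType_iff.mpr
    (by simpa using IntermediateField.fg_adjoin_finset (F := K) {t})
  have : Algebra.IsSeparable K F := Algebra.FormallyUnramified.isSeparable K F
  have h := Algebra.IsSeparable.isSeparable K
    (⟨t, IntermediateField.mem_adjoin_simple_self K t⟩ : F)
  rw [IsSeparable, IntermediateField.minpoly_eq] at h
  exact h

end Groth.Agent.H56.WeaklyEtale
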