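import Mathlib.RingTheory.Etale.Weakly
import Mathlib.RingTheory.Ideal.Pure
import Mathlib.RingTheory.Nilpotent.Basic
import Mathlib.RingTheory.Flat.Basic
import Groth.Agent.H56.WeaklyEtale

/-!
Weakly étale algebras over absolutely flat rings; weakly étale over reduced is reduced.
-/

open TensorProduct

universe u

namespace Groth.Agent.H56.AbsFlat

variable (A B : Type u) [CommRing A] [CommRing B] [Algebra A B]

/-- The action of `B ⊗[A] B` on `M ⊗[A] N` for `B`-modules `M`, `N`. -/
noncomputable def act (M N : Type u) [AddCommGroup M] [Module A M] [Module B M]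
    [IsScalarTower A B M] [AddCommGroup N] [Module A N] [Module B N] [IsScalarTower A B N] :
    B ⊗[A] B →ₐ[A] Module.End A (M ⊗[A] N) :=
  (Module.endTensorEndAlgHom (R := A) (S := A) (M := M) (N := N)).comp
    (Algebra.TensorProduct.map (Algebra.lsmul A A M) (Algebra.lsmul A A N))

@[simp]
lemma act_tmul (M N : Type u) [AddCommGroup M] [Module A M] [Module B M]
    [IsScalarTower A B M] [AddCommGroup N] [Module A N] [Module B N] [IsScalarTower A B N]
    (b c : B) (m : M) (n : N) : act A B M N (b ⊗ₜ c) (m ⊗ₜ n) = (b • m) ⊗ₜ (c • n) := rfl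

/-- For a weakly étale algebra, a module flat over the base is flat over the algebra. -/
theorem flat_of_weaklyEtale [Algebra.WeaklyEtale A B] (M : Type u) [AddCommGroup M] [Module A M]
    [Module B M] [IsScalarTower A B M] [Module.Flat A M] : Module.Flat B M := by
  have := Groth.Agent.H56.WeaklyEtale.pure_kaehlerIdeal A B
  let μ := Algebra.TensorProduct.lmul' A (S := B)
  let m : B ⊗[A] M →ₗ[A] M := TensorProduct.lift (LinearMap.mk₂ A (fun b x => b • x)
    (fun _ _ _ => add_smul _ _ _) (fun _ _ _ => smul_assoc _ _ _) (fun _ _ _ => smul_add _ _ _)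
    (fun _ _ _ => smul_comm _ _ _))
  have hm : ∀ (b : B) (x : M), m (b ⊗ₜ x) = b • x := fun b x => rfl
  have key : ∀ w : B ⊗[A] M, ∃ e, μ e = 1 ∧
      act A B B M e (w - 1 ⊗ₜ m w) = 0 := by
    intro w
    induction w with
    | zero => exact ⟨1, map_one _, by simp⟩
    | tmul b x =>
      obtain ⟨i, hi, hbi⟩ := Ideal.exists_eq_mul_of_pure (I := KaehlerDifferential.ideal A B)
        (x := b ⊗ₜ 1 - 1 ⊗ₜ b) (by simp [KaehlerDifferential.ideal])
      have hi0 : μ i = 0 := hi
      refine ⟨1 - i, by rw [map_sub, map_one, hi0, sub_zero], ?_⟩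
      have : b ⊗ₜ x - 1 ⊗ₜ m (b ⊗ₜ x) = act A B B M (b ⊗ₜ 1 - 1 ⊗ₜ b) (1 ⊗ₜ x) := by
        simp [map_sub, hm]
      rw [this, ← Module.End.mul_apply, ← map_mul, sub_mul, one_mul, mul_comm i, ← hbi, sub_self]
      simp
    | add p q hp hq =>
      obtain ⟨e, he, hep⟩ := hp
      obtain ⟨e', he', heq⟩ := hq
      refine ⟨e * e', by rw [map_mul, he, he', one_mul], ?_⟩
      have hpq : p + q - 1 ⊗ₜ m (p + q) = (p - 1 ⊗ₜ m p) + (q - 1 ⊗ₜ m q) := by
        rw [map_add, tmul_add]; abel
      rw [hpq, map_add]
      nth_rewrite 1 [mul_comm e e']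
      rw [map_mul, Module.End.mul_apply, hep, map_zero, map_mul, Module.End.mul_apply, heq,
        map_zero, add_zero]
  rw [Module.Flat.iff_rTensor_injective]
  intro J hJ
  rw [injective_iff_map_eq_zero]
  intro z hz
  let JA : J →ₗ[A] B := (Submodule.subtype J).restrictScalars A
  have hinj : Function.Injective (JA.rTensor M) :=
    Module.Flat.rTensor_preserves_injective_linearMap JA Subtype.val_injective
  obtain ⟨z, rfl⟩ := TensorProduct.mapOfCompatibleSMul_surjective B A A J M z
  have hcomm : ∀ y, m (JA.rTensor M y) =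
      TensorProduct.lid B M ((Submodule.subtype J).rTensor M
        (TensorProduct.mapOfCompatibleSMul B A A J M y)) := by
    intro y
    induction y with
    | zero => simp
    | tmul a b => simp [JA, hm]
    | add p q hp hq => simp [hp, hq]
  obtain ⟨e, he, hew⟩ := key (JA.rTensor M z)
  have hm0 : m (JA.rTensor M z) = 0 := by rw [hcomm, hz, map_zero]
  rw [hm0, tmul_zero, sub_zero] at hew
  have hact : ∀ c y, JA.rTensor M (act A B J M c y) = act A B B M c (JA.rTensor M y) := by
    intro c y
    induction c with
    | zero => simp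
    | add p q hp hq => simp [hp, hq]
    | tmul b b' =>
      induction y with
      | zero => simp
      | tmul a x => simp [JA]
      | add p q hp hq => simp [hp, hq]
  have hez : act A B J M e z = 0 := hinj (by rw [hact, hew, map_zero])
  have hq : ∀ c y, TensorProduct.mapOfCompatibleSMul B A A J M (act A B J M c y) =
      μ c • TensorProduct.mapOfCompatibleSMul B A A J M y := by
    intro c y
    induction c with
    | zero => simp
    | add p q hp hq => simp [hp, hq, add_smul]
    | tmul b b' =>
      induction y with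
      | zero => simp
      | tmul a x =>
        simp [μ]
        rw [← TensorProduct.smul_tmul', smul_smul, mul_comm b']
      | add p q hp hq => simp [hp, hq, smul_add]
  have := hq e z
  rw [hez, map_zero, he, one_smul] at this
  exact this.symm

/-- Modules over a von Neumann regular ring are flat. -/
theorem flat_of_regular {R : Type u} [CommRing R] (h : ∀ a : R, ∃ x, a = a * x * a)
    (M : Type u) [AddCommGroup M] [Module R M] : Module.Flat R M := by
  rw [Module.Flat.iff_rTensor_injective]
  intro J hJ
  have hJ2 : IsIdempotentElem J := le_antisymm Ideal.mul_le_left fun a ha => by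
    obtain ⟨x, hx⟩ := h a
    rw [hx]
    exact Ideal.mul_mem_mul (J.mul_mem_right _ ha) ha
  obtain ⟨e, he, rfl⟩ := (Ideal.isIdempotentElem_iff_of_fg J hJ).mp hJ2
  let r : R →ₗ[R] Ideal.span {e} :=
    LinearMap.toSpanSingleton R _ ⟨e, Ideal.mem_span_singleton_self e⟩
  have hr : r ∘ₗ Submodule.subtype (Ideal.span {e}) = LinearMap.id := by
    ext ⟨a, ha⟩
    obtain ⟨c, rfl⟩ := Ideal.mem_span_singleton.mp ha
    show e * c * e = e * c
    rw [mul_right_comm, he.eq]
  exact Function.LeftInverse.injective (g := r.rTensor M) fun y => by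
    rw [← LinearMap.rTensor_comp_apply, hr, LinearMap.rTensor_id, LinearMap.id_apply]

/-- Weakly étale algebras over reduced rings are reduced. -/
theorem isReduced_of_weaklyEtale [Algebra.WeaklyEtale A B] [IsReduced A] : IsReduced B := by
  let R := ∀ p : PrimeSpectrum A, p.asIdeal.ResidueField
  have hR : Function.Injective (Algebra.linearMap A R) := by
    rw [injective_iff_map_eq_zero]
    intro a ha
    have : a ∈ nilradical A := by
      rw [nilradical_eq_sInf]
      refine Submodule.mem_sInf.mpr fun (p : Ideal A) (hp : p.IsPrime) => ?_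
      have : algebraMap A p.ResidueField a = 0 := congrFun ha ⟨p, hp⟩
      exact Ideal.algebraMap_residueField_eq_zero.mp this
    exact IsReduced.eq_zero a this
  have hreg : ∀ a : R, ∃ x, a = a * x * a := fun a =>
    ⟨fun p => (a p)⁻¹, funext fun p => by
      show a p = a p * (a p)⁻¹ * a p
      by_cases h : a p = 0
      · simp [h]
      · simp [mul_inv_cancel₀ h]⟩
  let B' := R ⊗[A] B
  let j : B →ₐ[A] B' := Algebra.TensorProduct.includeRight
  have hj : Function.Injective j := by
    have := Module.Flat.rTensor_preserves_injective_linearMap (M := B) _ hR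
    have e : (j : B → B') =
        (Algebra.linearMap A R).rTensor B ∘ (TensorProduct.lid A B).symm := by
      ext b; simp [j, B']
    rw [e]
    exact this.comp (TensorProduct.lid A B).symm.injective
  have : IsReduced B' := by
    refine (isReduced_iff_pow_one_lt 2 one_lt_two).mpr fun x hx => ?_
    have : Module.Flat R (B' ⧸ Ideal.span {x}) := flat_of_regular hreg _
    have : (Ideal.span {x}).Pure := flat_of_weaklyEtale R B' (B' ⧸ Ideal.span {x})
    obtain ⟨y, hy, hxy⟩ := Ideal.exists_eq_mul_of_pure (Ideal.mem_span_singleton_self x)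
    obtain ⟨c, rfl⟩ := Ideal.mem_span_singleton.mp hy
    rw [hxy, ← mul_assoc, ← pow_two, hx, zero_mul]
  exact isReduced_of_injective j hj

end Groth.Agent.H56.AbsFlat
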