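import Mathlib.AlgebraicGeometry.Geometrically.Connected
import Mathlib.AlgebraicGeometry.Geometrically.Irreducible
import Mathlib.AlgebraicGeometry.Geometrically.Reduced
import Mathlib.AlgebraicGeometry.Morphisms.Flat
import Mathlib.AlgebraicGeometry.PullbackCarrier
import Mathlib.RingTheory.Flat.FaithfullyFlat.Algebra

/-!
Geometric properties descend along field extensions.
-/

open CategoryTheory AlgebraicGeometry Limits

universe u

namespace Groth.Agent.H56.GeomDescent

variable {X X' : Scheme.{u}}

set_option backward.isDefEq.respectTransparency.types false in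
/-- A geometric property which descends along flat quasi-compact surjections descends along
field extensions. -/
theorem geometrically_of_baseChange (P : ObjectProperty Scheme.{u})
    [P.IsClosedUnderIsomorphisms]
    (hP : ∀ {A B : Scheme.{u}} (q : A ⟶ B), Flat q → Surjective q → QuasiCompact q → P A → P B)
    {k k' : Type u} [Field k] [Field k'] (b : Spec (.of k') ⟶ Spec (.of k))
    (f : X ⟶ Spec (.of k)) (f' : X' ⟶ Spec (.of k')) (g' : X' ⟶ X) (sq : IsPullback g' f' f b)
    (h : geometrically P f') : geometrically P f := by
  rw [geometrically_iff_of_isClosedUnderIsomorphisms]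
  intro K _ y
  obtain ⟨p⟩ : Nonempty ↑(pullback b y) := by
    obtain ⟨z, -⟩ := Scheme.Pullback.exists_preimage_pullback (f := b) (g := y)
      (IsLocalRing.closedPoint k') (IsLocalRing.closedPoint K) (Subsingleton.elim _ _)
    exact ⟨z⟩
  let L := (pullback b y).residueField p
  let a : Spec L ⟶ Spec (.of k') := (pullback b y).fromSpecResidueField p ≫ pullback.fst b y
  let c : Spec L ⟶ Spec (.of K) := (pullback b y).fromSpecResidueField p ≫ pullback.snd b y
  have hac : c ≫ y = a ≫ b := by
    simp only [a, c, Category.assoc, pullback.condition]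
  have hc₁ : Surjective c := ⟨fun z => ⟨IsLocalRing.closedPoint L, Subsingleton.elim _ _⟩⟩
  have hc₂ : Flat c := by
    obtain ⟨φ, hφ⟩ := Spec.map_surjective c
    rw [← hφ, HasRingHomProperty.Spec_iff (P := @Flat)]
    algebraize [φ.hom]
    exact Module.Flat.of_free
  have hc₃ : QuasiCompact c := inferInstance
  have sq₁ : IsPullback (pullback.fst f' a ≫ g') (pullback.snd f' a) f (c ≫ y) := by
    rw [hac]
    exact (IsPullback.of_hasPullback f' a).paste_horiz sq
  let q : pullback f' a ⟶ pullback f y :=
    pullback.lift (pullback.fst f' a ≫ g') (pullback.snd f' a ≫ c)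
      (by rw [Category.assoc]; exact sq₁.w)
  have sq₂ : IsPullback q (pullback.snd f' a) (pullback.snd f y) c := by
    refine .of_right (h₁₂ := pullback.fst f y) ?_ (pullback.lift_snd _ _ _)
      (IsPullback.of_hasPullback f y)
    rw [show q ≫ pullback.fst f y = pullback.fst f' a ≫ g' from pullback.lift_fst _ _ _]
    exact sq₁
  exact hP q (MorphismProperty.of_isPullback sq₂.flip hc₂)
    (MorphismProperty.of_isPullback sq₂.flip hc₁) (MorphismProperty.of_isPullback sq₂.flip hc₃)
    (h a _ _ (IsPullback.of_hasPullback f' a))

theorem isReduced_of_flat_surjective {A B : Scheme.{u}} (q : A ⟶ B) [Flat q] [Surjective q]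
    [IsReduced A] : IsReduced B := by
  have : ∀ y : B, _root_.IsReduced (B.presheaf.stalk y) := fun y => by
    obtain ⟨x, rfl⟩ := q.surjective y
    algebraize [(q.stalkMap x).hom]
    have : Module.Flat (B.presheaf.stalk (q x)) (A.presheaf.stalk x) := Flat.stalkMap q x
    have : IsLocalHom (algebraMap (B.presheaf.stalk (q x)) (A.presheaf.stalk x)) :=
      inferInstanceAs (IsLocalHom (q.stalkMap x).hom)
    have := Module.FaithfullyFlat.of_flat_of_isLocalHom (A := B.presheaf.stalk (q x))
      (B := A.presheaf.stalk x)
    exact isReduced_of_injective (q.stalkMap x).hom (FaithfulSMul.algebraMap_injective _ _)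
  exact isReduced_of_isReduced_stalk B

end Groth.Agent.H56.GeomDescent
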