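import Groth.Agent.S0385
import Mathlib.AlgebraicGeometry.Morphisms.SchemeTheoreticallyDominant
import Mathlib.AlgebraicGeometry.Morphisms.FlatDescent
import Mathlib.AlgebraicGeometry.Morphisms.UniversallyOpen
import Mathlib.RingTheory.Localization.BaseChange

/-!
# Flat monomorphisms of finite type which are open immersions over a dense open
-/

set_option autoImplicit false
universe u

open CategoryTheory Limits AlgebraicGeometry TopologicalSpace TensorProduct

namespace Groth.Agent.H56.FlatMono

/-- A flat quasi-compact surjective monomorphism is an isomorphism. -/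
theorem isIso_of_flat_mono {X Y : Scheme.{u}} (f : X ⟶ Y) [Mono f] [Flat f] [Surjective f]
    [QuasiCompact f] : IsIso f := by
  refine MorphismProperty.of_pullback_snd_of_descendsAlong (P := MorphismProperty.isomorphisms Scheme)
    (Q := @Surjective ⊓ @Flat ⊓ @QuasiCompact) (f := f) (g := f) ⟨⟨‹_›, ‹_›⟩, ‹_›⟩ ?_
  show IsIso _
  infer_instance

theorem exists_notMem {A : Type u} [CommRing A] (p : Ideal A) [p.IsPrime] (J : Ideal A) (a : A)
    (h : ∀ q : Ideal A, q.IsPrime → q ≤ p → J ≤ q → a ∈ q) :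
    ∃ t ∉ p, ∀ q : Ideal A, q.IsPrime → t ∉ q → J ≤ q → a ∈ q := by
  have : algebraMap A (Localization.AtPrime p) a ∈
      (J.map (algebraMap A (Localization.AtPrime p))).radical := by
    rw [Ideal.radical_eq_sInf, Submodule.mem_sInf]
    rintro P ⟨hJP, hP⟩
    refine h (Ideal.comap (algebraMap A (Localization.AtPrime p)) P) (Ideal.IsPrime.comap _) ?_
      (Ideal.map_le_iff_le_comap.mp hJP)
    intro x hx
    by_contra hxp
    exact hP.ne_top (Ideal.eq_top_of_isUnit_mem _ hx
      (IsLocalization.map_units (Localization.AtPrime p) (⟨x, hxp⟩ : p.primeCompl)))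
  obtain ⟨n, hn⟩ := this
  rw [← map_pow] at hn
  obtain ⟨⟨⟨j, hj⟩, ⟨t, ht⟩⟩, he⟩ :=
    (IsLocalization.mem_map_algebraMap_iff p.primeCompl _).mp hn
  rw [← map_mul] at he
  obtain ⟨⟨u, hu⟩, hu'⟩ := (IsLocalization.eq_iff_exists p.primeCompl _).mp he
  refine ⟨u * t, fun hm => (Ideal.IsPrime.mem_or_mem ‹_› hm).elim hu ht, fun q hq htq hJq => ?_⟩
  have : u * t * a ^ n ∈ q := by
    rw [show u * t * a ^ n = u * (a ^ n * t) by ring, hu']
    exact q.mul_mem_left _ (hJq hj)
  exact hq.mem_of_pow_mem n ((hq.mem_or_mem this).resolve_left htq)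

/-- A finite algebra which is cyclic at a prime is cyclic on a neighbourhood. -/
theorem exists_surjective_away {A C : Type u} [CommRing A] [CommRing C] [Algebra A C]
    [Module.Finite A C] (p : Ideal A) [p.IsPrime]
    (h : Function.Surjective (algebraMap (Localization.AtPrime p) (Localization.AtPrime p ⊗[A] C))) :
    ∃ t ∉ p, ∀ s : A, Function.Surjective
      (algebraMap (Localization.Away (t * s)) (Localization.Away (t * s) ⊗[A] C)) := by
  classical
  have hloc : IsLocalizedModule p.primeCompl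
      (TensorProduct.mk A (Localization.AtPrime p) C 1) :=
    (isLocalizedModule_iff_isBaseChange p.primeCompl (Localization.AtPrime p) _).mpr
      (TensorProduct.isBaseChange A C (Localization.AtPrime p))
  have key : ∀ c : C, ∃ t ∉ p, ∃ a : A, t • c = algebraMap A C a := by
    intro c
    obtain ⟨r, hr⟩ := h (1 ⊗ₜ c)
    obtain ⟨⟨a, ⟨t, ht⟩⟩, hat⟩ := IsLocalization.surj p.primeCompl r
    have h0 : TensorProduct.mk A (Localization.AtPrime p) C 1 (t • c - algebraMap A C a) = 0 := by
      rw [map_sub, map_smul, TensorProduct.mk_apply, TensorProduct.mk_apply,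
        Algebra.algebraMap_eq_smul_one (A := C), TensorProduct.tmul_smul, ← hr,
        Algebra.TensorProduct.algebraMap_apply, Algebra.algebraMap_self, RingHom.id_apply,
        TensorProduct.smul_tmul', TensorProduct.smul_tmul', ← TensorProduct.sub_tmul]
      rw [Algebra.smul_def, mul_comm, hat, Algebra.smul_def, mul_one, sub_self,
        TensorProduct.zero_tmul]
    obtain ⟨⟨u, hu⟩, hu'⟩ := (IsLocalizedModule.eq_zero_iff p.primeCompl _).mp h0
    refine ⟨u * t, fun hm => (Ideal.IsPrime.mem_or_mem ‹_› hm).elim hu ht, u * a, ?_⟩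
    rw [Submonoid.smul_def, smul_sub, sub_eq_zero, smul_smul] at hu'
    rw [hu', map_mul, Algebra.smul_def]
  choose t ht a ha using key
  obtain ⟨S, hS⟩ := (Module.finite_def.mp ‹Module.Finite A C›)
  refine ⟨∏ c ∈ S, t c, fun hm => ?_, fun s => ?_⟩
  · obtain ⟨c, -, hc⟩ := (Ideal.IsPrime.prod_mem_iff (p := p)).mp hm
    exact ht c hc
  set P := (∏ c ∈ S, t c) * s with hP
  let φ := algebraMap (Localization.Away P) (Localization.Away P ⊗[A] C)
  have hgen : ∀ c : C, (1 : Localization.Away P) ⊗ₜ[A] c ∈ φ.range := by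
    intro c
    have hc : c ∈ Submodule.span A (S : Set C) := hS ▸ trivial
    induction hc using Submodule.span_induction with
    | mem c hc =>
      obtain ⟨d, hd⟩ : t c ∣ P := (Finset.dvd_prod_of_mem t hc).mul_right s
      obtain ⟨v, hv⟩ : ∃ v : Localization.Away P, v * algebraMap A _ (t c) = 1 := by
        obtain ⟨w, hw⟩ := (IsLocalization.Away.algebraMap_isUnit
          (S := Localization.Away P) P).exists_left_inv
        exact ⟨w * algebraMap A _ d, by rw [mul_assoc, ← map_mul, mul_comm d, ← hd, hw]⟩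
      refine ⟨v * algebraMap A _ (a c), ?_⟩
      show φ _ = _
      rw [Algebra.TensorProduct.algebraMap_apply, Algebra.algebraMap_self, RingHom.id_apply,
        mul_comm, ← Algebra.smul_def, TensorProduct.smul_tmul, ← Algebra.algebraMap_eq_smul_one,
        ← ha c, ← TensorProduct.smul_tmul, Algebra.smul_def, mul_comm, hv]
    | zero => rw [TensorProduct.tmul_zero]; exact φ.range.zero_mem
    | add x y _ _ hx hy => rw [TensorProduct.tmul_add]; exact φ.range.add_mem hx hy
    | smul x c _ hx =>
      rw [← TensorProduct.smul_tmul, show (x • (1 : Localization.Away P)) ⊗ₜ[A] c =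
        φ (algebraMap A _ x) * ((1 : Localization.Away P) ⊗ₜ c) by
          rw [Algebra.TensorProduct.algebraMap_apply, Algebra.algebraMap_self, RingHom.id_apply,
            Algebra.TensorProduct.tmul_mul_tmul, one_mul, mul_one, Algebra.smul_def, mul_one]]
      exact φ.range.mul_mem ⟨_, rfl⟩ hx
  intro z
  induction z using TensorProduct.induction_on with
  | zero => exact ⟨0, map_zero _⟩
  | tmul r c =>
    obtain ⟨w, hw⟩ := hgen c
    refine ⟨r * w, ?_⟩
    show φ _ = _
    rw [map_mul, hw, Algebra.TensorProduct.algebraMap_apply, Algebra.algebraMap_self,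
      RingHom.id_apply, Algebra.TensorProduct.tmul_mul_tmul, mul_one, one_mul]
  | add x y hx hy =>
    obtain ⟨v, hv⟩ := hx
    obtain ⟨w, hw⟩ := hy
    exact ⟨v + w, by rw [map_add, hv, hw]⟩

theorem surjective_of_isIso_snd {A C : CommRingCat.{u}} (φ : A ⟶ C) (π : Spec C ⟶ Spec A)
    (hφ : Spec.map φ = π) (R : Type u) [CommRing R] [Algebra A R]
    (h : IsIso (pullback.snd π (Spec.map (CommRingCat.ofHom (algebraMap A R))))) :
    letI := φ.hom.toAlgebra
    Function.Surjective (algebraMap R (R ⊗[A] C)) := by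
  letI := φ.hom.toAlgebra
  subst hφ
  have e : Spec.map (CommRingCat.ofHom (algebraMap R (R ⊗[A] C))) =
      (pullbackSpecIso A R C).inv ≫ pullback.fst _ _ := (pullbackSpecIso_inv_fst' _ _ _).symm
  have h' : IsIso (pullback.fst (Spec.map (CommRingCat.ofHom (algebraMap A R))) (Spec.map φ)) := by
    rw [← pullbackSymmetry_hom_comp_snd]; exact IsIso.comp_isIso
  have h'' : IsIso (Spec.map (CommRingCat.ofHom (algebraMap R (R ⊗[A] C)))) := by
    rw [e]
    exact @IsIso.comp_isIso _ _ _ _ _ _ _ inferInstance h'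
  haveI : IsIso (Scheme.Spec.map (CommRingCat.ofHom (algebraMap R (R ⊗[A] C))).op) := h''
  have := isIso_of_reflects_iso (CommRingCat.ofHom (algebraMap R (R ⊗[A] C))).op Scheme.Spec
  have := isIso_of_op (CommRingCat.ofHom (algebraMap R (R ⊗[A] C)))
  exact (ConcreteCategory.bijective_of_isIso (CommRingCat.ofHom (algebraMap R (R ⊗[A] C)))).2

set_option backward.isDefEq.respectTransparency false in
theorem isClosedImmersion_snd {A C : CommRingCat.{u}} (φ : A ⟶ C) (π : Spec C ⟶ Spec A)
    (hφ : Spec.map φ = π) (h : A)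
    (hs : letI := φ.hom.toAlgebra
      Function.Surjective (algebraMap (Localization.Away h) (Localization.Away h ⊗[A] C))) :
    IsClosedImmersion (pullback.snd π
      (Spec.map (CommRingCat.ofHom (algebraMap A (Localization.Away h))))) := by
  letI := φ.hom.toAlgebra
  subst hφ
  have h₁ : IsClosedImmersion (Spec.map (CommRingCat.ofHom
      (algebraMap (Localization.Away h) (Localization.Away h ⊗[A] C)))) :=
    IsClosedImmersion.spec_of_surjective _ hs
  have h₂ : IsClosedImmersion (pullback.fst (Spec.map (CommRingCat.ofHom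
      (algebraMap A (Localization.Away h)))) (Spec.map φ)) := by
    have e : pullback.fst (Spec.map (CommRingCat.ofHom (algebraMap A (Localization.Away h))))
        (Spec.map φ) = (pullbackSpecIso A (Localization.Away h) C).hom ≫
          Spec.map (CommRingCat.ofHom (algebraMap (Localization.Away h) _)) :=
      (pullbackSpecIso_hom_fst' _ _ _).symm
    rw [e]
    exact MorphismProperty.comp_mem @IsClosedImmersion _ _ inferInstance h₁
  rw [← pullbackSymmetry_hom_comp_snd, MorphismProperty.cancel_left_of_respectsIso @IsClosedImmersion] at h₂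
  exact h₂

set_option backward.isDefEq.respectTransparency false in
set_option maxHeartbeats 1200000 in
theorem exists_open_affine {A : CommRingCat.{u}} {X : Scheme.{u}} [IsAffine X]
    (f : X ⟶ Spec A) [Flat f] [LocallyOfFiniteType f] [Mono f] (U : (Spec A).Opens)
    (hUc : IsCompact (U : Set (Spec A))) [IsSchemeTheoreticallyDominant U.ι]
    [IsOpenImmersion (f ∣_ U)] (x : X) :
    ∃ W : X.Opens, x ∈ W ∧ IsOpenImmersion (W.ι ≫ f) := by
  classical
  have : IsIso (pullback.diagonal f) := inferInstance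
  have : UniversallyInjective f := inferInstance
  have : LocallyQuasiFinite f := inferInstance
  obtain ⟨T₀, j₀, π₀, hj₀, hj₀c, hπ₀, hfac⟩ := Groth.Agent.S0385.result f
  -- the scheme-theoretic closure, as a spectrum
  let C : CommRingCat.{u} := Γ(j₀.image, ⊤)
  have : IsAffine T₀ := isAffine_of_isAffineHom π₀
  have : IsAffine j₀.image := isAffine_of_isAffineHom j₀.imageι
  let j : X ⟶ Spec C := j₀.toImage ≫ j₀.image.isoSpec.hom
  let π : Spec C ⟶ Spec A := j₀.image.isoSpec.inv ≫ j₀.imageι ≫ π₀
  have hjπ : j ≫ π = f := by simp [j, π, hfac]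
  have : IsFinite π := inferInstance
  have hdom : IsSchemeTheoreticallyDominant j := by
    have : IsSchemeTheoreticallyDominant j₀.toImage := by
      have hinj : Function.Injective j₀.toImage.appTop.hom :=
        j₀.toImage_app_injective ⟨⊤, isAffineOpen_top T₀⟩
      refine ⟨?_⟩
      rw [Scheme.ker_of_isAffine, (RingHom.injective_iff_ker_eq_bot _).mp hinj, ← le_bot_iff]
      exact Scheme.IdealSheafData.le_of_isAffine (by simp)
    infer_instance
  obtain ⟨φ, hφ⟩ := Spec.map_surjective π
  letI := φ.hom.toAlgebra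
  have : Module.Finite A C := by
    have : IsFinite (Spec.map φ) := by rw [hφ]; infer_instance
    exact (IsFinite.SpecMap_iff φ).mp this
  let p := f x
  -- over the local ring
  let g : Spec (CommRingCat.of (Localization.AtPrime p.asIdeal)) ⟶ Spec A :=
    Spec.map (CommRingCat.ofHom (algebraMap A (Localization.AtPrime p.asIdeal)))
  have : Flat g := by
    rw [HasRingHomProperty.Spec_iff (P := @Flat)]
    exact RingHom.flat_algebraMap_iff.mpr (IsLocalization.flat _ p.asIdeal.primeCompl)
  have : Surjective (pullback.snd f g) := by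
    refine ⟨fun r => ?_⟩
    have hle : g r ⤳ f x := by
      rw [← PrimeSpectrum.le_iff_specializes]
      show (PrimeSpectrum.comap (algebraMap A (Localization.AtPrime p.asIdeal)) r).asIdeal ≤ p.asIdeal
      intro x hx
      by_contra hxp
      exact r.isPrime.ne_top (Ideal.eq_top_of_isUnit_mem _ hx
        (IsLocalization.map_units (Localization.AtPrime p.asIdeal) (⟨x, hxp⟩ : p.asIdeal.primeCompl)))
    obtain ⟨y, -, hy⟩ := Flat.generalizingMap f hle
    obtain ⟨z, -, hz⟩ := Scheme.Pullback.exists_preimage_pullback y r hy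
    exact ⟨z, hz⟩
  have : IsIso (pullback.snd f g) := isIso_of_flat_mono _
  let τ : pullback f g ⟶ pullback π g :=
    pullback.map f g π g j (𝟙 _) (𝟙 _) (by simp [hjπ]) (by simp)
  have hτ : IsPullback (pullback.fst f g) τ j (pullback.fst π g) := by
    refine IsPullback.of_bot ?_ (pullback.lift_fst _ _ _).symm (IsPullback.of_hasPullback π g)
    rw [hjπ]
    convert IsPullback.of_hasPullback f g using 1
    simp [τ]
  have hjimm : IsOpenImmersion j := inferInstance
  have : QuasiCompact j := by
    have : QuasiCompact (j ≫ π) := by rw [hjπ]; infer_instance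
    exact QuasiCompact.of_comp j π
  have : IsSchemeTheoreticallyDominant τ := IsSchemeTheoreticallyDominant.of_isPullback hτ
  have : IsClosedImmersion (τ ≫ pullback.snd π g) := by
    simp only [τ, pullback.lift_snd, Category.comp_id]
    infer_instance
  have : IsClosedImmersion τ := IsClosedImmersion.of_comp τ (pullback.snd π g)
  have : IsIso τ := IsClosedImmersion.isIso_iff_ker_eq_bot.mpr τ.ker_eq_bot
  have hsnd : IsIso (pullback.snd π g) := by
    have : IsIso (τ ≫ pullback.snd π g) := by
      simp only [τ, pullback.lift_snd, Category.comp_id]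
      infer_instance
    exact IsIso.of_isIso_comp_left τ _
  have hsurj := surjective_of_isIso_snd φ π hφ (Localization.AtPrime p.asIdeal) hsnd
  obtain ⟨t₁, ht₁, hclosed⟩ := exists_surjective_away p.asIdeal hsurj
  -- the dense open lies in the image near the point
  let U₁ : (Spec A).Opens := ((f ∣_ U) ≫ U.ι).opensRange
  obtain ⟨J, hJ⟩ := (PrimeSpectrum.isClosed_iff_zeroLocus_ideal _).mp U₁.2.isClosed_compl
  have hbas : ∀ u : U, ∃ a : A, u.1 ∈ PrimeSpectrum.basicOpen a ∧
      (PrimeSpectrum.basicOpen a : Set (PrimeSpectrum A)) ⊆ (U : Set (Spec A)) := fun u => by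
    obtain ⟨_, ⟨_, ⟨a, rfl⟩, rfl⟩, ha, ha'⟩ :=
      PrimeSpectrum.isBasis_basic_opens.exists_subset_of_mem_open u.2 U.2
    exact ⟨a, ha, ha'⟩
  choose a hua haU using hbas
  obtain ⟨F, hF⟩ := hUc.elim_finite_subcover
    (fun u => (PrimeSpectrum.basicOpen (a u) : Set (PrimeSpectrum A)))
    (fun u => (PrimeSpectrum.basicOpen (a u)).2) (fun u hu => Set.mem_iUnion.mpr ⟨⟨u, hu⟩, hua _⟩)
  have hgen : ∀ u : U, ∀ q : Ideal A, q.IsPrime → q ≤ p.asIdeal → J ≤ q → a u ∈ q := by
    intro u q hq hqp hJq
    by_contra hau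
    let Q : Spec A := ⟨q, hq⟩
    have hQU : Q ∈ U := haU u hau
    have hQp : Q ⤳ f x := (PrimeSpectrum.le_iff_specializes Q p).mp hqp
    obtain ⟨y, -, hy⟩ := Flat.generalizingMap f hQp
    have hQ₁ : Q ∈ U₁ := ⟨⟨y, show f y ∈ U from hy ▸ hQU⟩, by
      rw [morphismRestrict_ι]; exact hy⟩
    exact (hJ.ge (show Q ∈ PrimeSpectrum.zeroLocus (J : Set A) from hJq)) hQ₁
  choose t₂ ht₂ ht₂' using fun u => exists_notMem p.asIdeal J (a u) (hgen u)
  obtain ⟨h, hdef⟩ : ∃ h : A, h = t₁ * ∏ u ∈ F, t₂ u := ⟨_, rfl⟩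
  have hp : h ∉ p.asIdeal := fun hm => (p.isPrime.mem_or_mem (hdef ▸ hm)).elim ht₁ fun hm => by
    obtain ⟨u, -, hu⟩ := (Ideal.IsPrime.prod_mem_iff (p := p.asIdeal)).mp hm
    exact ht₂ u hu
  let gD : Spec (CommRingCat.of (Localization.Away h)) ⟶ Spec A :=
    Spec.map (CommRingCat.ofHom (algebraMap A (Localization.Away h)))
  have : IsOpenImmersion gD := IsOpenImmersion.of_isLocalization h
  have hrange : Set.range gD = (PrimeSpectrum.basicOpen h : Set (PrimeSpectrum A)) :=
    PrimeSpectrum.localization_away_comap_range _ h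
  have hDsnd : IsClosedImmersion (pullback.snd π gD) :=
    isClosedImmersion_snd φ π hφ h (hdef.symm ▸ hclosed (∏ u ∈ F, t₂ u))
  have hUD : Set.range (pullback.fst U.ι gD ≫ U.ι) ⊆ Set.range ((f ∣_ U) ≫ U.ι) := by
    rintro _ ⟨z, rfl⟩
    let Q : PrimeSpectrum A := (pullback.fst U.ι gD ≫ U.ι) z
    have hQU : Q ∈ U := (pullback.fst U.ι gD z).2
    have hQD : Q ∈ PrimeSpectrum.basicOpen h := hrange.le ⟨pullback.snd U.ι gD z, by
      rw [← Scheme.Hom.comp_apply, ← pullback.condition]⟩
    obtain ⟨u, hu, hQu⟩ := Set.mem_iUnion₂.mp (hF hQU)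
    by_contra hQ
    have hJQ : J ≤ Q.asIdeal := hJ.le hQ
    refine hQu (ht₂' u Q.asIdeal Q.isPrime (fun hm => hQD ?_) hJQ)
    rw [hdef]
    exact Ideal.mul_mem_left _ _
      ((Ideal.IsPrime.prod_mem_iff (p := Q.asIdeal)).mpr ⟨u, hu, hm⟩)
  let ℓ : pullback U.ι gD ⟶ (f ⁻¹ᵁ U).toScheme :=
    IsOpenImmersion.lift ((f ∣_ U) ≫ U.ι) (pullback.fst U.ι gD ≫ U.ι) hUD
  have hℓ : ℓ ≫ (f ⁻¹ᵁ U).ι ≫ f = pullback.snd U.ι gD ≫ gD := by
    rw [← morphismRestrict_ι, IsOpenImmersion.lift_fac, pullback.condition]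
  let w : pullback U.ι gD ⟶ pullback π gD :=
    pullback.lift (ℓ ≫ (f ⁻¹ᵁ U).ι ≫ j) (pullback.snd U.ι gD)
      (by rw [Category.assoc, Category.assoc, hjπ]; exact hℓ)
  have hwk : (pullback.snd π gD).ker = ⊥ := by
    refine le_bot_iff.mp ((Scheme.Hom.le_ker_comp w _).trans ?_)
    rw [pullback.lift_snd]
    have : QuasiCompact U.ι := by
      have : CompactSpace U.toScheme := isCompact_iff_compactSpace.mp hUc
      infer_instance
    exact (Scheme.Hom.ker_eq_bot (pullback.snd U.ι gD)).le
  have : IsIso (pullback.snd π gD) := IsClosedImmersion.isIso_iff_ker_eq_bot.mpr hwk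
  let τD : pullback f gD ⟶ pullback π gD :=
    pullback.map f gD π gD j (𝟙 _) (𝟙 _) (by simp [hjπ]) (by simp)
  have hτD : IsPullback (pullback.fst f gD) τD j (pullback.fst π gD) := by
    refine IsPullback.of_bot ?_ (pullback.lift_fst _ _ _).symm (IsPullback.of_hasPullback π gD)
    rw [hjπ]
    convert IsPullback.of_hasPullback f gD using 1
    simp [τD]
  have : IsOpenImmersion τD := MorphismProperty.of_isPullback hτD hjimm
  have : IsOpenImmersion (pullback.snd f gD) := by
    rw [show pullback.snd f gD = τD ≫ pullback.snd π gD by simp [τD]]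
    infer_instance
  obtain ⟨r, hr⟩ := hrange.ge (show f x ∈ PrimeSpectrum.basicOpen h from hp)
  obtain ⟨z, hzx, -⟩ := Scheme.Pullback.exists_preimage_pullback (f := f) (g := gD) x r hr.symm
  refine ⟨(pullback.fst f gD).opensRange, ⟨z, hzx⟩, ?_⟩
  let ε := IsOpenImmersion.isoOfRangeEq (pullback.fst f gD).opensRange.ι (pullback.fst f gD)
    (Scheme.Opens.range_ι _)
  have hε : ε.hom ≫ pullback.fst f gD = (pullback.fst f gD).opensRange.ι :=
    IsOpenImmersion.isoOfRangeEq_hom_fac _ _ _
  rw [← hε, Category.assoc, pullback.condition]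
  infer_instance

end Groth.Agent.H56.FlatMono
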