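import Groth.Agent.S2142
import Groth.Agent.Lib.FibreDim.Basic
import Mathlib.AlgebraicGeometry.Morphisms.FiniteType
import Mathlib.AlgebraicGeometry.PullbackCarrier

/-!
Local dimension of schemes locally of finite type over a field is invariant under field extension.
-/

open CategoryTheory AlgebraicGeometry Limits TensorProduct

universe u

namespace Groth.Agent.H56.DimBaseChange

open Groth.Agent.Lib.FibreDim.Basic

variable {k K : Type u} [Field k] [Field K] {X X' : Scheme.{u}}

theorem localDim_baseChange (b : Spec (.of K) ⟶ Spec (.of k)) (f : X ⟶ Spec (.of k))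
    (f' : X' ⟶ Spec (.of K)) (g' : X' ⟶ X) (sq : IsPullback g' f' f b) [LocallyOfFiniteType f]
    (z : X') : FlatMor.localDim ↥X' z = FlatMor.localDim ↥X (g' z) := by
  obtain ⟨φ, rfl⟩ := Spec.map_surjective b
  let := φ.hom.toAlgebra
  obtain ⟨U, hU, hzU, -⟩ :=
    exists_isAffineOpen_mem_and_subset (x := g' z) (U := ⊤) trivial
  let A := Γ(X, U)
  let j := hU.fromSpec
  obtain ⟨ψ, hψ⟩ := Spec.map_surjective (j ≫ f)
  let : Algebra k A := ψ.hom.toAlgebra
  have hft : Algebra.FiniteType k A := by
    have : LocallyOfFiniteType (Spec.map ψ) := by rw [hψ]; infer_instance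
    exact (HasRingHomProperty.Spec_iff (P := @LocallyOfFiniteType)).mp this
  let inR := CommRingCat.ofHom
    (Algebra.TensorProduct.includeRight (R := k) (A := K) (B := A)).toRingHom
  let inL := CommRingCat.ofHom
    (Algebra.TensorProduct.includeLeftRingHom : K →+* K ⊗[k] A)
  have hT : IsPullback (Spec.map inR) (Spec.map inL) (j ≫ f) (Spec.map φ) := by
    rw [← hψ]
    exact (isPullback_SpecMap_of_isPushout _ _ _ _
      (CommRingCat.isPushout_tensorProduct k K A)).flip
  let l : Spec (.of (K ⊗[k] A)) ⟶ X' :=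
    sq.lift (Spec.map inR ≫ j) (Spec.map inL) (by rw [Category.assoc]; exact hT.w)
  have h : IsPullback (Spec.map inR) l j g' := by
    refine IsPullback.of_bot ?_ (sq.lift_fst _ _ _).symm sq
    rw [show l ≫ f' = Spec.map inL from sq.lift_snd _ _ _]
    exact hT
  have : IsOpenImmersion l := MorphismProperty.of_isPullback h inferInstance
  have hz : g' z ∈ Set.range j := by rw [hU.range_fromSpec]; exact hzU
  obtain ⟨P, hP⟩ := hz
  obtain ⟨w, hw₁, hw₂⟩ := Scheme.Pullback.exists_preimage_pullback (f := j) (g := g') P z hP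
  obtain ⟨Q, rfl⟩ : ∃ Q, l Q = z :=
    ⟨h.isoPullback.inv w, by rw [← Scheme.Hom.comp_apply, h.isoPullback_inv_snd, hw₂]⟩
  have hQ : g' (l Q) = j (Spec.map inR Q) := by
    rw [← Scheme.Hom.comp_apply, ← h.w, Scheme.Hom.comp_apply]
  rw [hQ, localDim_eq_of_isOpenEmbedding l.isOpenEmbedding,
    localDim_eq_of_isOpenEmbedding j.isOpenEmbedding]
  have hP' := (Spec.map inR Q : PrimeSpectrum A).isPrime
  have hQ' := (Q : PrimeSpectrum (K ⊗[k] A)).isPrime
  exact S2142.result (k := k) (S := A) (K := K) (Spec.map inR Q : PrimeSpectrum A).asIdeal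
    (Q : PrimeSpectrum (K ⊗[k] A)).asIdeal rfl

theorem topologicalKrullDim_baseChange (b : Spec (.of K) ⟶ Spec (.of k)) (f : X ⟶ Spec (.of k))
    (f' : X' ⟶ Spec (.of K)) (g' : X' ⟶ X) (sq : IsPullback g' f' f b) [LocallyOfFiniteType f] :
    topologicalKrullDim ↥X' = topologicalKrullDim ↥X := by
  have : Surjective b := ⟨fun _ => ⟨IsLocalRing.closedPoint K, Subsingleton.elim _ _⟩⟩
  have hg : Surjective g' := MorphismProperty.of_isPullback sq.flip this
  refine le_antisymm (topologicalKrullDim_le_of_forall fun z => ?_)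
    (topologicalKrullDim_le_of_forall fun x => ?_)
  · rw [localDim_baseChange b f f' g' sq z]
    exact localDim_le_topologicalKrullDim _
  · obtain ⟨z, rfl⟩ := g'.surjective x
    rw [← localDim_baseChange b f f' g' sq z]
    exact localDim_le_topologicalKrullDim _

end Groth.Agent.H56.DimBaseChange
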