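import Mathlib.Algebra.MvPolynomial.NoZeroDivisors
import Mathlib.Algebra.MvPolynomial.Nilpotent
import Mathlib.RingTheory.Jacobson.Ring
import Mathlib.RingTheory.FiniteType
import Mathlib.RingTheory.FiniteStability
import Mathlib.FieldTheory.IsAlgClosed.Basic
import Mathlib.RingTheory.TensorProduct.Maps
import Mathlib.RingTheory.Localization.BaseChange

/-!
# Irreducibility of polynomials in several variables under field extensions and specialisation
-/

set_option autoImplicit false
set_option linter.style.haveILetI false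
noncomputable section

universe u

open MvPolynomial TensorProduct

namespace Groth.Agent.H56.PolyIrred

variable {n : ℕ}

/-- Exponents of degree at most `e`. -/
abbrev Exps (n e : ℕ) : Type := {i : Fin n → Fin (e + 1) // ∑ j, (i j : ℕ) ≤ e}

/-- The exponent as a finitely supported function. -/
def expo {e : ℕ} (i : Exps n e) : Fin n →₀ ℕ := Finsupp.equivFunOnFinite.symm fun j => (i.1 j : ℕ)

/-- The polynomial with given coefficients in degree at most `e`. -/
def poly {R : Type*} [CommRing R] {e : ℕ} (c : Exps n e → R) : MvPolynomial (Fin n) R :=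
  ∑ i, monomial (expo i) (c i)

theorem totalDegree_poly {R : Type*} [CommRing R] {e : ℕ} (c : Exps n e → R) :
    (poly c).totalDegree ≤ e := by
  refine totalDegree_finsetSum_le fun i _ => (totalDegree_monomial_le _ _).trans ?_
  refine (le_of_eq ?_).trans i.2
  rw [Finsupp.sum_fintype _ _ fun _ => rfl]
  rfl

theorem map_poly {R S : Type*} [CommRing R] [CommRing S] (φ : R →+* S) {e : ℕ} (c : Exps n e → R) :
    (poly c).map φ = poly (φ ∘ c) := by
  simp [poly, map_sum, map_monomial]

theorem exists_eq_poly {R : Type*} [CommRing R] {e : ℕ} {Q : MvPolynomial (Fin n) R}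
    (h : Q.totalDegree ≤ e) : ∃ c : Exps n e → R, poly c = Q := by
  classical
  refine ⟨fun i => Q.coeff (expo i), MvPolynomial.ext _ _ fun m => ?_⟩
  rw [poly, coeff_sum]
  simp only [coeff_monomial]
  by_cases hm : ∑ j, m j ≤ e
  · let i₀ : Exps n e := ⟨fun j => ⟨m j, Nat.lt_succ_of_le ((Finset.single_le_sum
      (fun j _ => (m j).zero_le) (Finset.mem_univ j)).trans hm)⟩, hm⟩
    have h0 : expo i₀ = m := Finsupp.ext fun j => rfl
    rw [Finset.sum_eq_single i₀, if_pos h0, h0]
    · intro i _ hi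
      refine if_neg fun he => hi (Subtype.ext (funext fun j => Fin.ext ?_))
      exact DFunLike.congr_fun he j
    · simp
  · rw [Finset.sum_eq_zero fun i _ => if_neg fun he => hm (by subst he; exact i.2)]
    refine (coeff_eq_zero_of_totalDegree_lt ?_).symm
    calc Q.totalDegree ≤ e := h
      _ < ∑ j, m j := Nat.lt_of_not_le hm
      _ = ∑ j ∈ m.support, m j := (Finset.sum_subset (Finset.subset_univ _) fun j _ hj =>
            Finsupp.notMem_support_iff.1 hj).symm

section Scheme

variable {A : Type u} [CommRing A] (P : MvPolynomial (Fin n) A) (e d : ℕ)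

/-- The relations for a factorisation of `P` in degrees at most `e` and `d`. -/
def rel : Ideal (MvPolynomial (Exps n e ⊕ Exps n d) A) :=
  Ideal.span (Set.range fun m =>
    coeff m (poly (fun i => X (Sum.inl i)) * poly (fun i => X (Sum.inr i)) - P.map C))

/-- The algebra classifying factorisations of `P` in degrees at most `e` and `d`. -/
abbrev Alg : Type u := MvPolynomial (Exps n e ⊕ Exps n d) A ⧸ rel P e d

variable {P e d}

theorem nonempty_algHom_iff (L : Type u) [CommRing L] [Algebra A L] :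
    Nonempty (Alg P e d →ₐ[A] L) ↔ ∃ Q R : MvPolynomial (Fin n) L,
      Q.totalDegree ≤ e ∧ R.totalDegree ≤ d ∧ Q * R = P.map (algebraMap A L) := by
  constructor
  · rintro ⟨φ⟩
    let ψ : MvPolynomial (Exps n e ⊕ Exps n d) A →+* L :=
      (φ.comp (Ideal.Quotient.mkₐ A (rel P e d))).toRingHom
    refine ⟨_, _, totalDegree_poly (ψ ∘ fun i => X (Sum.inl i)),
      totalDegree_poly (ψ ∘ fun i => X (Sum.inr i)), ?_⟩
    have hC : ψ.comp C = algebraMap A L := RingHom.ext fun a =>
      (φ.comp (Ideal.Quotient.mkₐ A (rel P e d))).commutes a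
    rw [← map_poly, ← map_poly, ← map_mul, ← hC, ← MvPolynomial.map_map, ← sub_eq_zero, ← map_sub]
    ext m
    rw [coeff_map, coeff_zero]
    show φ (Ideal.Quotient.mk (rel P e d) _) = 0
    have hm : coeff m (poly (fun i => X (Sum.inl i)) * poly (fun i => X (Sum.inr i)) - P.map C) ∈
        rel P e d := Ideal.subset_span ⟨m, rfl⟩
    rw [Ideal.Quotient.eq_zero_iff_mem.2 hm, map_zero]
  · rintro ⟨Q, R, hQ, hR, he⟩
    obtain ⟨c, rfl⟩ := exists_eq_poly hQ
    obtain ⟨c', rfl⟩ := exists_eq_poly hR
    let ψ : MvPolynomial (Exps n e ⊕ Exps n d) A →ₐ[A] L := aeval (Sum.elim c c')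
    refine ⟨Ideal.Quotient.liftₐ (rel P e d) ψ fun z hz => ?_⟩
    revert z
    show rel P e d ≤ RingHom.ker ψ
    rw [rel, Ideal.span_le]
    rintro _ ⟨m, rfl⟩
    show ψ.toRingHom _ = 0
    have h1 : ψ.toRingHom ∘ (fun i => X (Sum.inl i)) = c := funext fun i => by simp [ψ]
    have h2 : ψ.toRingHom ∘ (fun i => X (Sum.inr i)) = c' := funext fun i => by simp [ψ]
    have hC : ψ.toRingHom.comp C = algebraMap A L := RingHom.ext fun a => ψ.commutes a
    rw [← coeff_map, map_sub, map_mul, map_poly, map_poly, MvPolynomial.map_map, h1, h2, hC, he, sub_self,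
      coeff_zero]

end Scheme

theorem irreducible_iff {L : Type*} [Field L] {P : MvPolynomial (Fin n) L}
    (hP : 0 < P.totalDegree) :
    Irreducible P ↔ ∀ e, 0 < e → e < P.totalDegree → ¬ ∃ Q R : MvPolynomial (Fin n) L,
      Q.totalDegree ≤ e ∧ R.totalDegree ≤ P.totalDegree - e ∧ Q * R = P := by
  have hP0 : P ≠ 0 := fun h => by simp [h] at hP
  have hunit : ∀ Q : MvPolynomial (Fin n) L, Q ≠ 0 → (IsUnit Q ↔ Q.totalDegree = 0) := by
    intro Q hQ
    rw [isUnit_iff_eq_C_of_isReduced, totalDegree_eq_zero_iff_eq_C]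
    constructor
    · rintro ⟨r, -, rfl⟩
      simp
    · intro h
      exact ⟨_, isUnit_iff_ne_zero.2 fun h0 => hQ (by rw [h, h0, C_0]), h⟩
  constructor
  · rintro h e he hed ⟨Q, R, hQ, hR, rfl⟩
    obtain ⟨hQ0, hR0⟩ := mul_ne_zero_iff.1 hP0
    rcases h.isUnit_or_isUnit rfl with hu | hu
    · have h1 := (hunit Q hQ0).1 hu
      have h2 := totalDegree_mul_of_isDomain hQ0 hR0
      omega
    · have h1 := (hunit R hR0).1 hu
      have h2 := totalDegree_mul_of_isDomain hQ0 hR0
      omega
  · intro h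
    refine ⟨fun hu => hP.ne' ((hunit P hP0).1 hu), fun Q R he => ?_⟩
    obtain ⟨hQ0, hR0⟩ := mul_ne_zero_iff.1 (he ▸ hP0)
    by_contra hc
    rw [not_or, hunit Q hQ0, hunit R hR0] at hc
    have h2 := totalDegree_mul_of_isDomain hQ0 hR0
    rw [← he] at h2
    exact h Q.totalDegree (Nat.pos_of_ne_zero hc.1) (by omega)
      ⟨Q, R, le_rfl, by omega, he.symm⟩

/-- A nonzero algebra of finite type over a field has a point in every algebraically closed
extension. -/
theorem exists_algHom (k Ω C : Type u) [Field k] [Field Ω] [Algebra k Ω] [IsAlgClosed Ω]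
    [CommRing C] [Algebra k C] [Algebra.FiniteType k C] [Nontrivial C] :
    Nonempty (C →ₐ[k] Ω) := by
  obtain ⟨m, hm⟩ := Ideal.exists_maximal C
  letI := Ideal.Quotient.field m
  have : Module.Finite k (C ⧸ m) := finite_of_finite_type_of_isJacobsonRing k (C ⧸ m)
  have : Algebra.IsAlgebraic k (C ⧸ m) := Algebra.IsAlgebraic.of_finite k (C ⧸ m)
  exact ⟨(IsAlgClosed.lift : C ⧸ m →ₐ[k] Ω).comp (Ideal.Quotient.mkₐ k m)⟩

theorem totalDegree_map_of_injective {R S : Type*} [CommRing R] [CommRing S] {φ : R →+* S}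
    (hφ : Function.Injective φ) (P : MvPolynomial (Fin n) R) :
    (P.map φ).totalDegree = P.totalDegree := by
  rw [totalDegree, totalDegree, support_map_of_injective P hφ]

/-- Irreducibility over one algebraically closed extension gives irreducibility over every
extension. -/
theorem irreducible_map {k : Type u} [Field k] (Ω : Type u) [Field Ω] [Algebra k Ω]
    [IsAlgClosed Ω] {P : MvPolynomial (Fin n) k} (hP : 0 < P.totalDegree)
    (h : Irreducible (P.map (algebraMap k Ω))) (K : Type u) [Field K] [Algebra k K] :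
    Irreducible (P.map (algebraMap k K)) := by
  have hdK := totalDegree_map_of_injective (algebraMap k K).injective P
  have hdΩ := totalDegree_map_of_injective (algebraMap k Ω).injective P
  rw [irreducible_iff (hdK.symm ▸ hP), hdK]
  intro e he hed hex
  obtain ⟨φ⟩ := (nonempty_algHom_iff (A := k) K).2 hex
  have : Nontrivial (Alg P e (P.totalDegree - e)) := φ.toRingHom.domain_nontrivial
  obtain ⟨ψ⟩ := exists_algHom k Ω (Alg P e (P.totalDegree - e))
  have h' := (irreducible_iff (hdΩ.symm ▸ hP)).1 h e he (hdΩ.symm ▸ hed)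
  rw [hdΩ] at h'
  exact h' ((nonempty_algHom_iff Ω).1 ⟨ψ⟩)

/-- A finite type algebra over a domain without points in `Ω` is killed by a nonzero scalar. -/
theorem exists_algebraMap_eq_zero {A : Type u} [CommRing A] [IsDomain A] (Ω : Type u) [Field Ω]
    [IsAlgClosed Ω] [Algebra (FractionRing A) Ω] [Algebra A Ω] [IsScalarTower A (FractionRing A) Ω]
    (C : Type u) [CommRing C] [Algebra A C] [Algebra.FiniteType A C]
    (h : IsEmpty (C →ₐ[A] Ω)) : ∃ a : A, a ≠ 0 ∧ algebraMap A C a = 0 := by
  have h1 : (Algebra.TensorProduct.includeRight : C →ₐ[A] FractionRing A ⊗[A] C) 1 = 0 := by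
    by_contra hne
    have : Nontrivial (FractionRing A ⊗[A] C) := nontrivial_of_ne _ _ hne
    obtain ⟨ψ⟩ := exists_algHom (FractionRing A) Ω (FractionRing A ⊗[A] C)
    exact h.false ((ψ.restrictScalars A).comp Algebra.TensorProduct.includeRight)
  obtain ⟨a, ha⟩ := (IsLocalizedModule.eq_zero_iff (nonZeroDivisors A)
    (TensorProduct.mk A (FractionRing A) C 1)).1 h1
  exact ⟨a, nonZeroDivisors.coe_ne_zero a, by rw [Algebra.algebraMap_eq_smul_one]; exact ha⟩

/-- Irreducibility over the algebraic closure of the fraction field spreads out. -/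
theorem exists_irreducible_map {A : Type u} [CommRing A] [IsDomain A] (Ω : Type u) [Field Ω]
    [IsAlgClosed Ω] [Algebra (FractionRing A) Ω] [Algebra A Ω] [IsScalarTower A (FractionRing A) Ω]
    (P : MvPolynomial (Fin n) A) (h : Irreducible (P.map (algebraMap A Ω))) :
    ∃ f : A, f ≠ 0 ∧ ∀ (L : Type u) [Field L] [Algebra A L], algebraMap A L f ≠ 0 →
      Irreducible (P.map (algebraMap A L)) := by
  have hinj : Function.Injective (algebraMap A Ω) := by
    rw [IsScalarTower.algebraMap_eq A (FractionRing A) Ω]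
    exact (algebraMap (FractionRing A) Ω).injective.comp (IsFractionRing.injective A _)
  have hdΩ := totalDegree_map_of_injective hinj P
  have hP : 0 < P.totalDegree := by
    refine Nat.pos_of_ne_zero fun h0 => h.not_isUnit ?_
    rw [isUnit_iff_eq_C_of_isReduced]
    refine ⟨algebraMap A Ω (P.coeff 0), isUnit_iff_ne_zero.2 fun e => h.ne_zero ?_, ?_⟩
    · rw [totalDegree_eq_zero_iff_eq_C.1 h0, map_C, e, C_0]
    · conv_lhs => rw [totalDegree_eq_zero_iff_eq_C.1 h0, map_C]
  have hne : P ≠ 0 := fun h0 => by simp [h0] at hP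
  obtain ⟨m, hm, hmd⟩ := Finset.exists_mem_eq_sup P.support (support_nonempty.2 hne)
    fun s => s.sum fun _ e => e
  have he : ∀ e : Fin P.totalDegree, ∃ a : A, a ≠ 0 ∧
      (0 < (e : ℕ) → algebraMap A (Alg P e (P.totalDegree - e)) a = 0) := fun e => by
    rcases Nat.eq_zero_or_pos (e : ℕ) with h0 | h0
    · exact ⟨1, one_ne_zero, fun hc => absurd h0 hc.ne'⟩
    obtain ⟨a, ha, ha'⟩ := exists_algebraMap_eq_zero Ω (Alg P e (P.totalDegree - e)) ⟨fun φ => by
      have h' := (irreducible_iff (hdΩ.symm ▸ hP)).1 h e h0 (hdΩ.symm ▸ e.2)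
      rw [hdΩ] at h'
      exact h' ((nonempty_algHom_iff Ω).1 ⟨φ⟩)⟩
    exact ⟨a, ha, fun _ => ha'⟩
  choose a ha ha' using he
  refine ⟨P.coeff m * ∏ e, a e,
    mul_ne_zero (mem_support_iff.1 hm) (Finset.prod_ne_zero_iff.2 fun e _ => ha e),
    fun L _ _ hL => ?_⟩
  rw [map_mul, map_prod, mul_ne_zero_iff, Finset.prod_ne_zero_iff] at hL
  have hdL : (P.map (algebraMap A L)).totalDegree = P.totalDegree := by
    refine le_antisymm (Finset.sup_mono (support_map_subset _ _)) ?_
    rw [totalDegree, hmd]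
    exact le_totalDegree (mem_support_iff.2 (by rw [coeff_map]; exact hL.1))
  rw [irreducible_iff (hdL.symm ▸ hP), hdL]
  intro e he hed hex
  obtain ⟨φ⟩ := (nonempty_algHom_iff L).2 hex
  have h2 := congrArg φ (ha' ⟨e, hed⟩ he)
  rw [φ.commutes, map_zero] at h2
  exact hL.2 ⟨e, hed⟩ (Finset.mem_univ _) h2

end Groth.Agent.H56.PolyIrred
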