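import Groth.Prelude.Def_Hens2
import Mathlib.AlgebraicGeometry.ZariskisMainTheorem
import Mathlib.AlgebraicGeometry.Morphisms.Etale

/-!
Étale neighbourhoods splitting a finite part at a quasi-finite point.
-/

open CategoryTheory AlgebraicGeometry Limits TopologicalSpace

universe u

namespace Groth.Agent.H56.EtaleNbhd

variable {X Y Z S : Scheme.{u}}

lemma residueFieldMap_bijective_of_surjective (f : X ⟶ Y) (x : X)
    (h : Function.Surjective (f.residueFieldMap x)) : Function.Bijective (f.residueFieldMap x) :=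
  ⟨(f.residueFieldMap x).hom.injective, h⟩

lemma residueFieldMap_surjective_of_comp (f : X ⟶ Y) (g : Y ⟶ Z) (x : X)
    (h : Function.Surjective ((f ≫ g).residueFieldMap x)) :
    Function.Surjective (g.residueFieldMap (f x)) ∧ Function.Surjective (f.residueFieldMap x) := by
  have h' : Function.Surjective (f.residueFieldMap x ∘ g.residueFieldMap (f x)) := by
    rw [Scheme.residueFieldMap_comp] at h
    exact h
  exact ⟨h'.of_comp_left (f.residueFieldMap x).hom.injective, h'.of_comp⟩

lemma residueFieldMap_surjective_of_isPreimmersion (f : X ⟶ Y) [IsPreimmersion f] (x : X) :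
    Function.Surjective (f.residueFieldMap x) := by
  intro a
  obtain ⟨b, rfl⟩ := X.residue_surjective x a
  obtain ⟨c, rfl⟩ := f.stalkMap_surjective x b
  refine ⟨Y.residue (f x) c, ?_⟩
  rw [← CommRingCat.comp_apply, Scheme.residue_residueFieldMap]
  rfl

/-- For an elementary point `u` over `S`, the first projection is injective on the fibre over `u`
and induces trivial residue field extensions there. -/
lemma fst_eq_imp_eq_and_residue {U : Scheme.{u}} (f : X ⟶ S) (g : U ⟶ S) (u : U)
    (hu : Function.Bijective (g.residueFieldMap u)) :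
    (∀ w w' : ↑(pullback f g), pullback.snd f g w = u → pullback.snd f g w' = u →
      pullback.fst f g w = pullback.fst f g w' → w = w') ∧
    (∀ w : ↑(pullback f g), pullback.snd f g w = u →
      Function.Bijective ((pullback.fst f g).residueFieldMap w)) := by
  let j := U.fromSpecResidueField u
  have : IsIso (g.residueFieldMap u) := (ConcreteCategory.isIso_iff_bijective _).mpr hu
  have hj : IsPreimmersion (j ≫ g) := by
    rw [← g.SpecMap_residueFieldMap_fromSpecResidueField]
    infer_instance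
  let q : pullback f (j ≫ g) ⟶ pullback f g :=
    pullback.lift (pullback.fst _ _) (pullback.snd _ _ ≫ j)
      (by rw [pullback.condition, Category.assoc])
  have hq : q ≫ pullback.fst f g = pullback.fst f (j ≫ g) := pullback.lift_fst _ _ _
  have hpb : IsPullback q (pullback.snd f (j ≫ g)) (pullback.snd f g) j := by
    refine IsPullback.of_right ?_ (pullback.lift_snd _ _ _) (IsPullback.of_hasPullback f g)
    rw [hq]
    exact IsPullback.of_hasPullback f (j ≫ g)
  have : IsPreimmersion (pullback.fst f (j ≫ g)) :=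
    MorphismProperty.of_isPullback (IsPullback.of_hasPullback f (j ≫ g)).flip hj
  have : IsPreimmersion (q ≫ pullback.fst f g) := by rw [hq]; infer_instance
  have hmem : ∀ w : ↑(pullback f g), pullback.snd f g w = u → ∃ z, q z = w := by
    intro w hw
    obtain ⟨pt⟩ : Nonempty ↑(Spec (U.residueField u)) := inferInstance
    obtain ⟨z, hz, -⟩ := Scheme.Pullback.exists_preimage_pullback (f := pullback.snd f g) (g := j)
      w pt (by rw [hw]; exact (U.fromSpecResidueField_apply u pt).symm)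
    exact ⟨hpb.isoPullback.inv z, by rw [← Scheme.Hom.comp_apply, hpb.isoPullback_inv_fst, hz]⟩
  constructor
  · intro w w' hw hw' e
    obtain ⟨z, rfl⟩ := hmem w hw
    obtain ⟨z', rfl⟩ := hmem w' hw'
    exact congrArg q ((q ≫ pullback.fst f g).isEmbedding.injective e)
  · intro w hw
    obtain ⟨z, rfl⟩ := hmem w hw
    exact residueFieldMap_bijective_of_surjective _ _ (residueFieldMap_surjective_of_comp q _ z
      (residueFieldMap_surjective_of_isPreimmersion _ z)).1

set_option backward.isDefEq.respectTransparency.types false in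
instance isPreimmersion_residueField (A : CommRingCat.{u}) (p : Ideal A) [p.IsPrime] :
    IsPreimmersion (Spec.map (CommRingCat.ofHom (algebraMap A p.ResidueField))) := by
  have h := Scheme.Spec.map_residueFieldIso_inv_eq_fromSpecResidueField A
    (⟨p, inferInstance⟩ : ↥(Spec A))
  have e : Spec.map (CommRingCat.ofHom (algebraMap A p.ResidueField)) =
      Spec.map (Scheme.Spec.residueFieldIso A (⟨p, inferInstance⟩ : ↥(Spec A))).hom ≫
        (Spec A).fromSpecResidueField (⟨p, inferInstance⟩ : ↥(Spec A)) := by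
    rw [← h, ← Spec.map_comp_assoc, Iso.inv_hom_id, Spec.map_id]
    exact (Category.id_comp _).symm
  rw [e]
  exact MorphismProperty.comp_mem @IsPreimmersion _ _ inferInstance inferInstance

set_option backward.isDefEq.respectTransparency.types false in
lemma residueFieldMap_bijective_of_mapₐ {A : CommRingCat.{u}} {R : Type u} [CommRing R] [Algebra A R]
    (p : Ideal A) [p.IsPrime] (P : Ideal R) [P.IsPrime] [P.LiesOver p]
    (hbij : Function.Bijective (Ideal.ResidueField.mapₐ p P (Algebra.ofId _ _) (P.over_def p)))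
    {S : Scheme.{u}} (j : Spec A ⟶ S) [IsPreimmersion j] :
    Function.Bijective ((Spec.map (CommRingCat.ofHom (algebraMap A R)) ≫ j).residueFieldMap
      (⟨P, inferInstance⟩ : ↥(Spec (.of R)))) := by
  let κP := CommRingCat.ofHom (algebraMap R P.ResidueField)
  let κp := CommRingCat.ofHom (algebraMap A p.ResidueField)
  let m := CommRingCat.ofHom (Ideal.ResidueField.mapₐ p P (Algebra.ofId _ _)
    (P.over_def p)).toRingHom
  have : IsIso m := (ConcreteCategory.isIso_iff_bijective _).mpr hbij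
  have hm : κp ≫ m = CommRingCat.ofHom (algebraMap A R) ≫ κP := by
    ext a
    simp [κp, κP, m, ← IsScalarTower.algebraMap_apply]
  have e2 : Spec.map κP ≫ Spec.map (CommRingCat.ofHom (algebraMap A R)) ≫ j =
      Spec.map m ≫ Spec.map κp ≫ j := by
    rw [← Spec.map_comp_assoc, ← hm, Spec.map_comp_assoc]
  have : IsPreimmersion (Spec.map κP ≫ Spec.map (CommRingCat.ofHom (algebraMap A R)) ≫ j) := by
    rw [e2]; infer_instance
  have e3 : (Spec (.of R)).fromSpecResidueField (⟨P, inferInstance⟩ : ↥(Spec (.of R))) ≫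
        Spec.map (CommRingCat.ofHom (algebraMap A R)) ≫ j =
      Spec.map (Scheme.Spec.residueFieldIso (.of R) (⟨P, inferInstance⟩ : ↥(Spec (.of R)))).inv ≫
        Spec.map κP ≫ Spec.map (CommRingCat.ofHom (algebraMap A R)) ≫ j := by
    erw [← Scheme.Spec.map_residueFieldIso_inv_eq_fromSpecResidueField_assoc]
  have : IsPreimmersion ((Spec (.of R)).fromSpecResidueField
      (⟨P, inferInstance⟩ : ↥(Spec (.of R))) ≫
        Spec.map (CommRingCat.ofHom (algebraMap A R)) ≫ j) := by
    rw [e3]; infer_instance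
  obtain ⟨pt⟩ : Nonempty
    ↑(Spec ((Spec (.of R)).residueField (⟨P, inferInstance⟩ : ↥(Spec (.of R))))) := inferInstance
  have h := (residueFieldMap_surjective_of_comp _ _ pt
    (residueFieldMap_surjective_of_isPreimmersion ((Spec (.of R)).fromSpecResidueField
      (⟨P, inferInstance⟩ : ↥(Spec (.of R))) ≫
        Spec.map (CommRingCat.ofHom (algebraMap A R)) ≫ j) pt)).1
  rw [Scheme.fromSpecResidueField_apply] at h
  exact residueFieldMap_bijective_of_surjective _ _ h

set_option backward.defeqAttrib.useBackward true in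
set_option backward.isDefEq.respectTransparency false in
open TensorProduct in
/-- A quasi-finite point has, after an elementary étale neighbourhood of its image, a finite open
neighbourhood in which it is alone in its fibre. -/
theorem exists_isEtaleNbhd_finite_part (f : X ⟶ S) [LocallyOfFiniteType f]
    (x : X) (hx : f.QuasiFiniteAt x) :
    ∃ (U : Scheme.{u}) (g : U ⟶ S) (u : U), Hens2.IsEtaleNbhd g u (f x) ∧
      IsAffine U ∧
      ∃ (V : (pullback f g).Opens) (v : ↑(pullback f g)), v ∈ V ∧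
        IsFinite (V.ι ≫ pullback.snd f g) ∧ pullback.snd f g v = u ∧
        (∀ w : ↑(pullback f g), w ∈ V → pullback.snd f g w = u → w = v) ∧
        pullback.fst f g v = x ∧ Function.Bijective ((pullback.fst f g).residueFieldMap v) := by
  obtain ⟨_, ⟨U, hU, rfl⟩, hxU, -⟩ := S.isBasis_affineOpens.exists_subset_of_mem_open
    (Set.mem_univ (f x)) isOpen_univ
  obtain ⟨_, ⟨V, hV, rfl⟩, hxV, hUV : V ≤ f ⁻¹ᵁ U⟩ :=
    X.isBasis_affineOpens.exists_subset_of_mem_open hxU (f ⁻¹ᵁ U).2
  have : (f.appLE U V hUV).hom.FiniteType := f.finiteType_appLE hU hV hUV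
  algebraize [(f.appLE U V hUV).hom]
  let p := (hU.primeIdealOf ⟨f x, hxU⟩).asIdeal
  have hlo : (hV.primeIdealOf ⟨x, hxV⟩).asIdeal.LiesOver p := by
    suffices hU.primeIdealOf ⟨f x, hxU⟩ = Spec.map (f.appLE U V hUV) (hV.primeIdealOf ⟨x, hxV⟩) from
      ⟨congr(($this).1)⟩
    apply hU.isoSpec.inv.homeomorph.injective
    apply Subtype.ext
    simp only [IsAffineOpen.primeIdealOf, Scheme.Hom.homeomorph_apply,
      ← Scheme.Hom.comp_apply, ← Scheme.Opens.ι_apply, IsAffineOpen.isoSpec_hom]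
    simp
  have : Algebra.QuasiFiniteAt Γ(S, U) (hV.primeIdealOf ⟨x, hxV⟩).asIdeal :=
    hx.quasiFiniteAt hV hU hUV hxV
  obtain ⟨R, _, _, _, P, _, _, e, _, P', _, hPP', hP', heP', hbij, _, huniq⟩ :=
    Algebra.exists_etale_isIdempotentElem_forall_liesOver_eq
    p (hV.primeIdealOf ⟨x, hxV⟩).asIdeal
  have : (algebraMap R (Localization.Away e)).Finite := RingHom.finite_algebraMap.mpr ‹_›
  let φ : Γ(S, U) ⟶ .of R := CommRingCat.ofHom <| algebraMap Γ(S, U) R
  have hφ : φ.hom.Etale := RingHom.etale_algebraMap.mpr ‹_›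
  have : Etale (Spec.map φ) := HasRingHomProperty.Spec_iff.mpr hφ
  let e₁ : Spec (.of (R ⊗ Γ(X, V))) ≅ pullback (Spec.map (f.appLE U V hUV)) (Spec.map φ) :=
    (pullbackSpecIso _ _ _).symm ≪≫ pullbackSymmetry _ _
  have he₁ : e₁.hom ≫ pullback.fst _ _ =
      Spec.map (CommRingCat.ofHom Algebra.TensorProduct.includeRight.toRingHom) := by
    dsimp [e₁, RingHom.algebraMap_toAlgebra]
    rw [Category.assoc, pullbackSymmetry_hom_comp_fst]
    exact pullbackSpecIso_inv_snd ..
  let g : Spec (.of (R ⊗[Γ(S, U)] Γ(X, V))) ⟶ pullback f (Spec.map φ ≫ hU.fromSpec) :=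
    e₁.hom ≫ pullback.map _ _ _ _ hV.fromSpec (𝟙 _) hU.fromSpec
      (IsAffineOpen.SpecMap_appLE_fromSpec ..) (by simp)
  have hg_snd : g ≫ pullback.snd _ _ =
      Spec.map (CommRingCat.ofHom (algebraMap R (R ⊗[Γ(S, U)] Γ(X, V)))) := by
    have : (pullbackSpecIso Γ(S, U) R Γ(X, V)).inv ≫ pullback.fst _ _ = _ :=
      pullbackSpecIso_inv_fst (R := Γ(S, U)) (S := R) (T := Γ(X, V))
    simp only [g, e₁, φ]
    simp [RingHom.algebraMap_toAlgebra] at this ⊢
    exact this
  let W₁ := g ''ᵁ PrimeSpectrum.basicOpen e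
  have : IsFinite (W₁.ι ≫ pullback.snd f _) := by
    let ι : Spec (.of (Localization.Away e)) ⟶ pullback f (Spec.map φ ≫ hU.fromSpec) :=
      Spec.map (CommRingCat.ofHom <| algebraMap _ _) ≫ g
    have : ι.opensRange = W₁ := by
      simp only [Scheme.Hom.opensRange_comp, ι, W₁]
      congr 1
      exact TopologicalSpace.Opens.ext <| PrimeSpectrum.localization_away_comap_range _ _
    rw [← this, ← MorphismProperty.cancel_left_of_respectsIso @IsFinite
      (Scheme.Hom.isoOpensRange _).hom]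
    have H : (pullbackSpecIso _ R _).inv ≫ pullback.fst _ (Spec.map (f.appLE U V hUV)) = _ :=
      pullbackSpecIso_inv_fst ..
    simpa [Scheme.Hom.isoOpensRange, ι, g, e₁, RingHom.algebraMap_toAlgebra, φ, H,
      ← Spec.map_comp, IsFinite.SpecMap_iff]
  have hbase : (Spec.map φ ≫ hU.fromSpec) ⟨P, ‹_›⟩ = f x := by
    dsimp [Spec.map_apply]
    convert! hU.fromSpec_primeIdealOf ⟨f x, hxU⟩
    exact PrimeSpectrum.ext (Ideal.over_def _ _).symm
  have hres : Function.Bijective ((Spec.map φ ≫ hU.fromSpec).residueFieldMap ⟨P, ‹_›⟩) :=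
    residueFieldMap_bijective_of_mapₐ (A := Γ(S, U)) (R := R) p P hbij hU.fromSpec
  have hv₂ : pullback.snd f (Spec.map φ ≫ hU.fromSpec) (g ⟨P', ‹_›⟩) = ⟨P, ‹_›⟩ := by
    rw [← Scheme.Hom.comp_apply, hg_snd]
    exact PrimeSpectrum.ext (P'.over_def P).symm
  refine ⟨Spec (.of R), Spec.map φ ≫ hU.fromSpec, ⟨P, ‹_›⟩, ⟨inferInstance, hbase, hres⟩,
    inferInstance, W₁, g ⟨P', ‹_›⟩, ⟨⟨P', ‹_›⟩, heP', rfl⟩, ‹_›, hv₂, ?_, ?_,
    (fst_eq_imp_eq_and_residue f _ _ hres).2 _ hv₂⟩
  · rintro _ ⟨⟨P'', hprime⟩, heP'', rfl⟩ hw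
    erw [← Scheme.Hom.comp_apply, hg_snd] at hw
    congr 1
    exact PrimeSpectrum.ext (huniq P'' hprime ⟨congr(($hw).1).symm⟩ heP'')
  · trans hV.fromSpec ⟨P'.comap Algebra.TensorProduct.includeRight.toRingHom, inferInstance⟩
    · simp [← Scheme.Hom.comp_apply, -Scheme.Hom.comp_base, g, reassoc_of% he₁]; rfl
    convert! hV.fromSpec_primeIdealOf ⟨x, hxV⟩

/-- Refining an elementary étale neighbourhood keeps the finite part. -/
theorem finite_part_refine {U U' : Scheme.{u}} (f : X ⟶ S) (g : U ⟶ S) (u : U) (h : U' ⟶ U)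
    (u' : U') (hu' : h u' = u) (hres' : Function.Bijective ((h ≫ g).residueFieldMap u'))
    (V : (pullback f g).Opens) (v : ↑(pullback f g)) (hvV : v ∈ V)
    (hfin : IsFinite (V.ι ≫ pullback.snd f g)) (hv : pullback.snd f g v = u)
    (huniq : ∀ w : ↑(pullback f g), w ∈ V → pullback.snd f g w = u → w = v) :
    ∃ (V' : (pullback f (h ≫ g)).Opens) (v' : ↑(pullback f (h ≫ g))), v' ∈ V' ∧
      IsFinite (V'.ι ≫ pullback.snd f (h ≫ g)) ∧ pullback.snd f (h ≫ g) v' = u' ∧
      (∀ w : ↑(pullback f (h ≫ g)), w ∈ V' → pullback.snd f (h ≫ g) w = u' → w = v') ∧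
      pullback.fst f (h ≫ g) v' = pullback.fst f g v ∧
      Function.Bijective ((pullback.fst f (h ≫ g)).residueFieldMap v') := by
  let q : pullback f (h ≫ g) ⟶ pullback f g :=
    pullback.lift (pullback.fst _ _) (pullback.snd _ _ ≫ h)
      (by rw [pullback.condition, Category.assoc])
  have hqfst : q ≫ pullback.fst f g = pullback.fst f (h ≫ g) := pullback.lift_fst _ _ _
  have hqsnd : q ≫ pullback.snd f g = pullback.snd f (h ≫ g) ≫ h := pullback.lift_snd _ _ _
  have hpb : IsPullback q (pullback.snd f (h ≫ g)) (pullback.snd f g) h := by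
    refine IsPullback.of_right ?_ hqsnd (IsPullback.of_hasPullback f g)
    rw [hqfst]
    exact IsPullback.of_hasPullback f (h ≫ g)
  obtain ⟨hinj, hbij⟩ := fst_eq_imp_eq_and_residue f (h ≫ g) u' hres'
  obtain ⟨z, hz₁, hz₂⟩ := Scheme.Pullback.exists_preimage_pullback (f := pullback.snd f g) (g := h)
    v u' (hv.trans hu'.symm)
  let v' := hpb.isoPullback.inv z
  have hv₁ : q v' = v := by
    rw [← hz₁, ← Scheme.Hom.comp_apply, hpb.isoPullback_inv_fst]
  have hv₂ : pullback.snd f (h ≫ g) v' = u' := by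
    rw [← hz₂, ← Scheme.Hom.comp_apply, hpb.isoPullback_inv_snd]
  have hfst : pullback.fst f (h ≫ g) v' = pullback.fst f g v := by
    rw [← hqfst, Scheme.Hom.comp_apply, hv₁]
  refine ⟨q ⁻¹ᵁ V, v', by show q v' ∈ V; rwa [hv₁], ?_, hv₂, ?_, hfst, hbij _ hv₂⟩
  · exact MorphismProperty.of_isPullback
      ((isPullback_morphismRestrict q V).paste_vert hpb) hfin
  · intro w hw hw₂
    have hqw : q w = v := huniq _ hw (by
      rw [← Scheme.Hom.comp_apply, hqsnd, Scheme.Hom.comp_apply, hw₂, hu'])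
    refine hinj w v' hw₂ hv₂ ?_
    rw [hfst, ← hqfst, Scheme.Hom.comp_apply, hqw]

/-- Common refinement of two elementary étale neighbourhoods. -/
theorem exists_common_refinement {U₁ U₂ : Scheme.{u}} {s : S} (g₁ : U₁ ⟶ S) (g₂ : U₂ ⟶ S)
    (u₁ : U₁) (u₂ : U₂) (h₁ : Hens2.IsEtaleNbhd g₁ u₁ s) (h₂ : Hens2.IsEtaleNbhd g₂ u₂ s) :
    ∃ (U : Scheme.{u}) (g : U ⟶ S) (u : U) (a : U ⟶ U₁) (b : U ⟶ U₂),
      Hens2.IsEtaleNbhd g u s ∧ a ≫ g₁ = g ∧ b ≫ g₂ = g ∧ a u = u₁ ∧ b u = u₂ := by
  obtain ⟨z, hz₁, hz₂⟩ := Scheme.Pullback.exists_preimage_pullback u₁ u₂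
    (h₁.base_eq.trans h₂.base_eq.symm)
  have := h₁.etale
  have := h₂.etale
  refine ⟨pullback g₁ g₂, pullback.fst g₁ g₂ ≫ g₁, z, pullback.fst g₁ g₂, pullback.snd g₁ g₂,
    ⟨inferInstance, ?_, ?_⟩, rfl, pullback.condition.symm, hz₁, hz₂⟩
  · rw [Scheme.Hom.comp_apply, hz₁]; exact h₁.base_eq
  · have hb := (fst_eq_imp_eq_and_residue g₁ g₂ u₂ h₂.residue_bijective).2 z hz₂
    have ha : Function.Bijective (g₁.residueFieldMap (pullback.fst g₁ g₂ z)) := by
      rw [hz₁]; exact h₁.residue_bijective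
    rw [Scheme.residueFieldMap_comp]
    exact hb.comp ha

end Groth.Agent.H56.EtaleNbhd
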