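import Groth.Agent.Lib.Lim.Approx.Rel
import Groth.Agent.Lib.Lim.Eventual
import Groth.Agent.Lib.Lim.IdealFP
import Groth.Agent.Lib.Lim.FPDescend
import Mathlib.AlgebraicGeometry.Morphisms.IsIso

/-!
# Finite compactifications of finite presentation
-/

set_option autoImplicit false
universe u

open AlgebraicGeometry CategoryTheory Limits TopologicalSpace Opposite
open Groth.Agent.Lib.Lim

namespace Groth.Agent.H56.FPFinite

theorem exists_compact_open_preimage {T D : Scheme.{u}} (i : T ⟶ D) [IsClosedImmersion i]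
    (O : T.Opens) (hO : IsCompact (O : Set T)) :
    ∃ U : D.Opens, IsCompact (U : Set D) ∧ i ⁻¹ᵁ U = O := by
  classical
  obtain ⟨Ω, hΩ, hΩO⟩ := i.isClosedEmbedding.isInducing.isOpen_iff.mp O.2
  have hW : ∀ x : O, ∃ W : D.Opens, IsAffineOpen W ∧ i x.1 ∈ W ∧ (W : Set D) ⊆ Ω := by
    intro x
    obtain ⟨_, ⟨W, hW, rfl⟩, hxW, hWΩ⟩ := D.isBasis_affineOpens.exists_subset_of_mem_open
      (show i x.1 ∈ Ω from (Set.ext_iff.mp hΩO x.1).mpr x.2) hΩ
    exact ⟨W, hW, hxW, hWΩ⟩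
  choose W hW hxW hWΩ using hW
  obtain ⟨s, hs⟩ := hO.elim_finite_subcover (fun x : O => (i ⁻¹ᵁ W x : Set T))
    (fun x => (i ⁻¹ᵁ W x).2) (fun x hx => Set.mem_iUnion.mpr ⟨⟨x, hx⟩, hxW ⟨x, hx⟩⟩)
  refine ⟨⨆ x : s, W x.1, ?_, le_antisymm ?_ ?_⟩
  · rw [Opens.coe_iSup]
    exact isCompact_iUnion fun x => (hW x.1).isCompact
  · intro y hy
    obtain ⟨x, hx⟩ := Opens.mem_iSup.mp (show i y ∈ ⨆ x : s, W x.1 from hy)
    exact (Set.ext_iff.mp hΩO y).mp (hWΩ _ hx)
  · intro y hy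
    obtain ⟨x, hx, hyx⟩ := Set.mem_iUnion₂.mp (hs hy)
    exact Opens.mem_iSup.mpr ⟨⟨x, hx⟩, hyx⟩

theorem fg_ker_app {T D : Scheme.{u}} (i : T ⟶ D) [IsClosedImmersion i] {V : D.Opens}
    (hV : IsAffineOpen V) (h : LocallyOfFinitePresentation (i ∣_ V)) :
    (RingHom.ker (i.app V).hom).FG := by
  have : IsAffine (V : Scheme.{u}) := hV
  have : IsAffine (i ⁻¹ᵁ V : Scheme.{u}) := hV.preimage i
  have : IsClosedImmersion (i ∣_ V) := IsZariskiLocalAtTarget.restrict ‹_› V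
  have h1 := FPDescend.fg_ker_of_lfp (i ∣_ V) ⟨⊤, isAffineOpen_top _⟩
  rw [Scheme.Hom.ker_apply] at h1
  obtain ⟨p, hc⟩ : ∃ p, ((i ∣_ V).app ⊤).hom =
      (T.presheaf.map (eqToHom p).op).hom.comp (i.app (V.ι ''ᵁ ⊤)).hom :=
    ⟨_, congrArg CommRingCat.Hom.hom (morphismRestrict_appTop i V)⟩
  have e : RingHom.ker ((i ∣_ V).app ⊤).hom = RingHom.ker (i.app (V.ι ''ᵁ ⊤)).hom := by
    rw [hc]
    exact RingHom.ker_comp_of_injective _
      (ConcreteCategory.bijective_of_isIso (T.presheaf.map (eqToHom p).op)).1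
  have h2 : (RingHom.ker (i.app (V.ι ''ᵁ ⊤)).hom).FG := by
    rw [← e]
    exact h1
  rwa [V.ι_image_top] at h2

set_option backward.isDefEq.respectTransparency.types false in
theorem isIso_morphismRestrict {T' T : Scheme.{u}} (k : T' ⟶ T) [IsAffineHom k] {W : T.Opens}
    (hW : IsAffineOpen W) (h : Function.Bijective (k.app W)) : IsIso (k ∣_ W) := by
  have : IsAffine (W : Scheme.{u}) := hW
  rw [← MorphismProperty.isomorphisms.iff,
    HasAffineProperty.iff_of_isAffine (P := MorphismProperty.isomorphisms Scheme)]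
  refine ⟨hW.preimage k, ?_⟩
  rw [morphismRestrict_appTop]
  have hgen : ∀ (V : T.Opens) (U : T'.Opens) (e₁ : W = V) (e₂ : U = k ⁻¹ᵁ V),
      IsIso (k.app V ≫ T'.presheaf.map (eqToHom e₂).op) := by
    rintro V U rfl rfl
    have : IsIso (k.app W) := (ConcreteCategory.isIso_iff_bijective _).mpr h
    infer_instance
  exact hgen _ _ W.ι_image_top.symm _

set_option backward.isDefEq.respectTransparency false in
theorem exists_finite_stage {T₀ D S : Scheme.{u}} [CompactSpace S] [QuasiSeparatedSpace S]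
    [CompactSpace D] [QuasiSeparatedSpace D] (π₀ : T₀ ⟶ S) [IsFinite π₀]
    (i : T₀ ⟶ D) [IsClosedImmersion i] (t : D ⟶ S) [LocallyOfFiniteType t] (hit : i ≫ t = π₀)
    (I₀ : D.IdealSheafData) (hI₀ : I₀ ≤ i.ker) (hI₀' : IdealExt.IsFG I₀) :
    ∃ J : D.IdealSheafData, J ≤ i.ker ∧ I₀ ≤ J ∧ IdealExt.IsFG J ∧
      IsFinite (J.subschemeι ≫ t) := by
  let I : D.IdealSheafData := i.ker
  -- a stage finite over the base
  let τ : IdealExt.subDiagram I ⟶ (Functor.const _).obj S :=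
    { app := fun J => J.unop.1.subschemeι ≫ t
      naturality := fun _ _ _ => by simp }
  have : ∀ J, LocallyOfFiniteType (τ.app J) := fun J =>
    inferInstanceAs (LocallyOfFiniteType (J.unop.1.subschemeι ≫ t))
  let J₀ : (IdealExt.FGSub I)ᵒᵖ := op ⟨⊥, bot_le, IdealExt.isFG_bot⟩
  have hint : IsIntegralHom ((IdealExt.subCone I).π.app J₀ ≫ τ.app J₀) := by
    have : IsIso i.toImage := inferInstance
    have : IsIntegralHom (i.toImage ≫ I.subschemeι ≫ t) := by
      rw [← Category.assoc, show i.toImage ≫ I.subschemeι = i from i.toImage_imageι, hit]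
      infer_instance
    have h := (MorphismProperty.cancel_left_of_respectsIso @IsIntegralHom i.toImage _).mp this
    simpa [τ, IdealExt.subCone] using h
  obtain ⟨J₁, hJ₁⟩ := Eventual.exists_isFinite τ (IdealExt.isLimitSubCone I) J₀
  let J : IdealExt.FGSub I :=
    ⟨J₁.unop.1 ⊔ I₀, sup_le J₁.unop.2.1 hI₀, IdealExt.isFG_sup J₁.unop.2.2 hI₀'⟩
  exact ⟨J.1, J.2.1, (le_sup_right : I₀ ≤ J.1), J.2.2,
    hJ₁ (op J) (homOfLE (show J₁.unop ≤ J from le_sup_left (b := I₀))).op⟩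

set_option backward.isDefEq.respectTransparency false in
theorem isOpenImmersion_comp {X T₀ T D : Scheme.{u}} (j : X ⟶ T₀) [IsOpenImmersion j]
    (m : T₀ ⟶ T) [IsClosedImmersion m] (ι : T ⟶ D) [IsClosedImmersion ι] (i : T₀ ⟶ D) [IsClosedImmersion i]
    (hm : m ≫ ι = i) (U : D.Opens) (hU : i ⁻¹ᵁ U = j.opensRange) (Us : Finset D.affineOpens)
    (hUs : ∀ V ∈ Us, V.1 ≤ U) (hUcov : (U : Set D) ⊆ ⋃ V ∈ Us, (V.1 : Set D))
    (hJeq : ∀ V ∈ Us, ι.ker.ideal V = i.ker.ideal V) : IsOpenImmersion (j ≫ m) := by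
  let W : T.Opens := ι ⁻¹ᵁ U
  have hiso : IsIso (m ∣_ W) := by
    rw [← MorphismProperty.isomorphisms.iff]
    refine IsZariskiLocalAtTarget.of_iSup_eq_top (fun V : Us => W.ι ⁻¹ᵁ (ι ⁻¹ᵁ V.1.1))
      (top_le_iff.mp fun x _ => ?_) fun V => ?_
    · obtain ⟨V, hV, hxV⟩ := Set.mem_iUnion₂.mp (hUcov x.2)
      exact Opens.mem_iSup.mpr ⟨⟨V, hV⟩, hxV⟩
    rw [MorphismProperty.arrow_mk_iso_iff (MorphismProperty.isomorphisms Scheme)
      (morphismRestrictRestrict m W _),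
      Scheme.Hom.image_preimage_eq_opensRange_inf, Scheme.Opens.opensRange_ι,
      inf_eq_right.mpr (ι.preimage_mono (hUs V.1 V.2)),
      MorphismProperty.isomorphisms.iff]
    have hVa := V.1.2.preimage ι
    refine isIso_morphismRestrict m hVa ⟨(injective_iff_map_eq_zero _).mpr fun x hx => ?_,
      m.app_surjective _ hVa⟩
    obtain ⟨y, rfl⟩ := ι.app_surjective V.1.1 V.1.2 x
    have key : ∀ (g : T₀ ⟶ D) (_ : m ≫ ι = g), (g.app V.1.1) y = 0 := by
      rintro g rfl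
      rw [Scheme.Hom.comp_app, CommRingCat.comp_apply]
      exact hx
    have hy : y ∈ i.ker.ideal V.1 := by
      rw [Scheme.Hom.ker_apply]; exact key i hm
    rw [← hJeq V.1 V.2, Scheme.Hom.ker_apply] at hy
    exact hy
  have hpre : m ⁻¹ᵁ W = j.opensRange := by
    rw [← hU]
    exact congr($hm ⁻¹ᵁ U)
  let e : X ≅ (m ⁻¹ᵁ W : Scheme.{u}) := IsOpenImmersion.isoOfRangeEq j (m ⁻¹ᵁ W).ι
    (by rw [Scheme.Opens.range_ι, hpre]; rfl)
  have hjm : j ≫ m = e.hom ≫ (m ∣_ W) ≫ W.ι := by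
    rw [morphismRestrict_ι, IsOpenImmersion.isoOfRangeEq_hom_fac_assoc]
  rw [hjm]; infer_instance

set_option backward.isDefEq.respectTransparency false in
theorem exists_finite_fp_aux {X T₀ D S : Scheme.{u}} [CompactSpace S] [QuasiSeparatedSpace S]
    [CompactSpace X] [CompactSpace D] [QuasiSeparatedSpace D]
    (j : X ⟶ T₀) [IsOpenImmersion j] (π₀ : T₀ ⟶ S) [IsFinite π₀]
    [LocallyOfFinitePresentation (j ≫ π₀)] [QuasiCompact (j ≫ π₀)]
    (i : T₀ ⟶ D) [IsClosedImmersion i] (t : D ⟶ S) [IsAffineHom t] [LocallyOfFinitePresentation t]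
    (hit : i ≫ t = π₀) :
    ∃ (T : Scheme.{u}) (j' : X ⟶ T) (π : T ⟶ S), IsOpenImmersion j' ∧ QuasiCompact j' ∧
      IsFinite π ∧ LocallyOfFinitePresentation π ∧ j' ≫ π = j ≫ π₀ := by
  classical
  obtain ⟨U, hUc, hU⟩ := exists_compact_open_preimage i j.opensRange (isCompact_range j.continuous)
  -- affine covers of `U` and of `D`
  have hcovU : ∃ Us : Finset D.affineOpens, (∀ V ∈ Us, V.1 ≤ U) ∧ (U : Set D) ⊆ ⋃ V ∈ Us, (V.1 : Set D) := by
    obtain ⟨s, hs⟩ := hUc.elim_finite_subcover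
      (fun V : {V : D.affineOpens // V.1 ≤ U} => (V.1.1 : Set D)) (fun V => V.1.1.2) (fun x hx => by
        obtain ⟨V, hV, hxV, hVU⟩ := exists_isAffineOpen_mem_and_subset hx
        exact Set.mem_iUnion.mpr ⟨⟨⟨V, hV⟩, hVU⟩, hxV⟩)
    refine ⟨s.image Subtype.val, fun V hV => ?_, fun x hx => ?_⟩
    · obtain ⟨w, -, rfl⟩ := Finset.mem_image.mp hV; exact w.2
    · obtain ⟨w, hw, hxw⟩ := Set.mem_iUnion₂.mp (hs hx)
      exact Set.mem_iUnion₂.mpr ⟨w.1, Finset.mem_image_of_mem _ hw, hxw⟩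
  obtain ⟨Us, hUs, hUcov⟩ := hcovU
  obtain ⟨Vs, hVs⟩ := Eventual.exists_finite_affine_cover D
  -- the ideal is finitely generated on `U`
  let I : D.IdealSheafData := i.ker
  have hIfg : ∀ V ∈ Us, (I.ideal V).FG := by
    intro V hV
    rw [Scheme.Hom.ker_apply]
    refine fg_ker_app i V.2 ?_
    have hr : Set.range (i ⁻¹ᵁ V.1).ι ⊆ Set.range j := by
      rw [Scheme.Opens.range_ι]
      intro x hx
      exact hU.le (hUs V hV hx)
    let l := IsOpenImmersion.lift j (i ⁻¹ᵁ V.1).ι hr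
    have hl : l ≫ j = (i ⁻¹ᵁ V.1).ι := IsOpenImmersion.lift_fac _ _ hr
    have : IsOpenImmersion l := by
      have : IsOpenImmersion (l ≫ j) := by rw [hl]; infer_instance
      exact IsOpenImmersion.of_comp l j
    have : LocallyOfFinitePresentation ((i ∣_ V.1) ≫ V.1.ι ≫ t) := by
      rw [morphismRestrict_ι_assoc, hit, ← hl, Category.assoc]
      infer_instance
    exact OpenImm.lfp_of_comp (i ∣_ V.1) (V.1.ι ≫ t)
  obtain ⟨I₀, hI₀, hI₀fg, hI₀eq⟩ := IdealExt.exists_fg_list I Us.toList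
    (fun V hV => hIfg V (Finset.mem_toList.mp hV)) Vs.toList
  have hI₀' : IdealExt.IsFG I₀ := IdealExt.isFG_of_iSup_eq_top I₀ (fun V : Vs => V.1) hVs
    fun V => hI₀fg V.1 (Finset.mem_toList.mpr V.2)
  obtain ⟨J, hJI, hI₀J, hJfg, hfin⟩ := exists_finite_stage π₀ i t hit I₀ hI₀ hI₀'
  have : LocallyOfFinitePresentation J.subschemeι := IdealFP.lfp_subschemeι J hJfg
  have hJeq : ∀ V ∈ Us, J.subschemeι.ker.ideal V = i.ker.ideal V := fun V hV => by
    rw [J.ker_subschemeι]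
    exact le_antisymm (hJI V) ((hI₀eq V (Finset.mem_toList.mpr hV)).ge.trans (hI₀J V))
  obtain ⟨m, hm⟩ : ∃ m : T₀ ⟶ J.subscheme, m ≫ J.subschemeι = i :=
    ⟨i.toImage ≫ Scheme.IdealSheafData.inclusion hJI, by
      rw [Category.assoc, Scheme.IdealSheafData.inclusion_subschemeι]
      exact i.toImage_imageι⟩
  have : IsClosedImmersion m := by
    have : IsClosedImmersion (m ≫ J.subschemeι) := by rw [hm]; infer_instance
    exact IsClosedImmersion.of_comp m J.subschemeι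
  have hcomp : (j ≫ m) ≫ J.subschemeι ≫ t = j ≫ π₀ := by
    rw [Category.assoc, reassoc_of% hm, hit]
  have : QuasiCompact ((j ≫ m) ≫ J.subschemeι ≫ t) := by rw [hcomp]; infer_instance
  exact ⟨_, j ≫ m, J.subschemeι ≫ t,
    isOpenImmersion_comp j m J.subschemeι i hm U hU Us hUs hUcov hJeq,
    QuasiCompact.of_comp (j ≫ m) (J.subschemeι ≫ t), hfin, inferInstance, hcomp⟩

set_option backward.isDefEq.respectTransparency false in
/-- A quasi-compact open of a scheme finite over a qcqs base which is of finite presentation over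
the base is a quasi-compact open of a scheme finite of finite presentation over the base. -/
theorem exists_finite_fp {X T₀ S : Scheme.{u}} [CompactSpace S] [QuasiSeparatedSpace S]
    (j : X ⟶ T₀) [IsOpenImmersion j] [QuasiCompact j] (π₀ : T₀ ⟶ S) [IsFinite π₀]
    [LocallyOfFinitePresentation (j ≫ π₀)] [IsSeparated (j ≫ π₀)] [QuasiCompact (j ≫ π₀)] :
    ∃ (T : Scheme.{u}) (j' : X ⟶ T) (π : T ⟶ S), IsOpenImmersion j' ∧ QuasiCompact j' ∧
      IsFinite π ∧ LocallyOfFinitePresentation π ∧ j' ≫ π = j ≫ π₀ := by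
  classical
  have : CompactSpace T₀ := QuasiCompact.compactSpace_of_compactSpace π₀
  have : QuasiSeparatedSpace T₀ := quasiSeparatedSpace_of_quasiSeparated π₀
  have : CompactSpace X := QuasiCompact.compactSpace_of_compactSpace (j ≫ π₀)
  -- embed into an affine scheme of finite presentation over the base
  obtain ⟨R⟩ := Approx.Rel.exists_relApprox π₀
  obtain ⟨i₀⟩ := IsCofiltered.nonempty (C := R.Kᵒᵖ)
  have : IsAffineHom (R.cone.π.app i₀ ≫ R.t.app i₀) := by rw [R.w]; infer_instance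
  obtain ⟨i₁, -, hi₁⟩ := Eventual.exists_isAffineHom R.t R.isLimit i₀
  have : LocallyOfFiniteType ((𝟙 R.cone.pt) ≫ R.cone.π.app i₁ ≫ R.t.app i₁) := by
    rw [Category.id_comp, R.w]; infer_instance
  have : ∀ i, CompactSpace (R.D.obj i) := R.compact
  obtain ⟨i₂, hi₂⟩ := Eventual.exists_isClosedImmersion_comp R.t R.isLimit (𝟙 R.cone.pt) i₁
  obtain ⟨k, a₁, a₂, -⟩ := IsCofilteredOrEmpty.cone_objs i₁ i₂
  let D := R.D.obj k
  let t : D ⟶ S := R.t.app k
  let i : T₀ ⟶ D := R.π.app k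
  have hit : i ≫ t = π₀ := R.w k
  have hta : IsAffineHom t := hi₁ k a₁
  have : LocallyOfFinitePresentation t := R.lfp k
  have : CompactSpace D := R.compact k
  have : QuasiSeparatedSpace D := R.quasiSep k
  have : IsClosedImmersion i := by
    have : IsClosedImmersion (i ≫ R.D.map a₂) := by
      rw [show i ≫ R.D.map a₂ = R.π.app i₂ from R.cone.w a₂]
      rwa [Category.id_comp] at hi₂
    have := R.affine a₂
    exact IsClosedImmersion.of_comp i (R.D.map a₂)
  exact exists_finite_fp_aux j π₀ i t hit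

end Groth.Agent.H56.FPFinite
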