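import Mathlib.RingTheory.Artinian.Module
import Mathlib.RingTheory.LocalRing.Module
import Mathlib.RingTheory.LocalRing.ResidueField.Fiber
import Mathlib.RingTheory.Support
import Mathlib.RingTheory.Ideal.MinimalPrime.Localization
import Mathlib.RingTheory.Spectrum.Prime.Topology
import Mathlib.LinearAlgebra.Dimension.Finrank
import Mathlib.LinearAlgebra.Dimension.OrzechProperty

/-!
# Closed subsets of finite covers with dense image have interior
-/

set_option autoImplicit false
universe u

open TensorProduct

namespace Groth.Agent.H56.NowhereDense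

theorem exists_basis_tmul {A : Type u} [CommRing A] {M : Type u} [AddCommGroup M] [Module A M]
    [Module.Finite A M] (q : Ideal A) [q.IsPrime] :
    ∃ w : Fin (Module.finrank q.ResidueField (q.ResidueField ⊗[A] M)) → M,
      Submodule.span q.ResidueField (Set.range fun i => (1 : q.ResidueField) ⊗ₜ[A] w i) = ⊤ := by
  classical
  let K := q.ResidueField
  let V := K ⊗[A] M
  let S : Set V := Set.range fun m : M => (1 : K) ⊗ₜ[A] m
  have hS : Submodule.span K S = ⊤ := by
    refine eq_top_iff.mpr fun z _ => ?_
    induction z using TensorProduct.induction_on with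
    | zero => exact Submodule.zero_mem _
    | tmul k m =>
      rw [show k ⊗ₜ[A] m = k • ((1 : K) ⊗ₜ[A] m) by rw [smul_tmul', smul_eq_mul, mul_one]]
      exact Submodule.smul_mem _ _ (Submodule.subset_span ⟨m, rfl⟩)
    | add x y hx hy => exact Submodule.add_mem _ (hx trivial) (hy trivial)
  obtain ⟨b, hbS, hspan, hli⟩ := exists_linearIndependent K S
  rw [hS] at hspan
  let B : Module.Basis b K V := .mk hli (by rw [Subtype.range_coe]; exact hspan.ge)
  have : Fintype b := @Fintype.ofFinite _ (Module.Finite.finite_basis B)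
  choose g hg using fun x : b => hbS x.2
  let e : Fin (Module.finrank K V) ≃ b :=
    (finCongr (Module.finrank_eq_card_basis B)).trans (Fintype.equivFin b).symm
  refine ⟨g ∘ e, ?_⟩
  rw [← hspan]
  congr 1
  ext x
  constructor
  · rintro ⟨i, rfl⟩
    simp only [Function.comp_apply, hg]
    exact (e i).2
  · intro hx
    exact ⟨e.symm ⟨x, hx⟩, by simp [hg]⟩

theorem exists_smul_mem_span {A : Type u} [CommRing A] {M : Type u} [AddCommGroup M] [Module A M]
    [Module.Finite A M] (q : Ideal A) [q.IsPrime] {ι : Type*} (w : ι → M)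
    (hw : Submodule.span q.ResidueField (Set.range fun i => (1 : q.ResidueField) ⊗ₜ[A] w i) = ⊤) :
    ∃ f ∉ q, ∀ m : M, f • m ∈ Submodule.span A (Set.range w) := by
  classical
  let N := Submodule.span A (Set.range w)
  have hsupp : (⟨q, inferInstance⟩ : PrimeSpectrum A) ∉ Module.support A (M ⧸ N) := by
    rw [Module.mem_support_iff_nontrivial_residueField_tensorProduct, not_nontrivial_iff_subsingleton]
    let π : q.ResidueField ⊗[A] M →ₗ[q.ResidueField] q.ResidueField ⊗[A] (M ⧸ N) :=
      N.mkQ.baseChange q.ResidueField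
    have h0 : ∀ z, π z = 0 := by
      intro z
      have hz : z ∈ Submodule.span q.ResidueField
          (Set.range fun i => (1 : q.ResidueField) ⊗ₜ[A] w i) := hw ▸ trivial
      induction hz using Submodule.span_induction with
      | mem z hz =>
        obtain ⟨i, rfl⟩ := hz
        simp only [π, LinearMap.baseChange_tmul]
        rw [Submodule.mkQ_apply, (Submodule.Quotient.mk_eq_zero N).mpr (Submodule.subset_span ⟨i, rfl⟩),
          TensorProduct.tmul_zero]
      | zero => exact map_zero _
      | add a b _ _ ha hb => rw [map_add, ha, hb, add_zero]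
      | smul c a _ ha => rw [map_smul, ha, smul_zero]
    refine subsingleton_of_forall_eq 0 fun y => ?_
    obtain ⟨z, rfl⟩ := LinearMap.lTensor_surjective q.ResidueField N.mkQ_surjective y
    exact h0 z
  rw [Module.notMem_support_iff'] at hsupp
  obtain ⟨s, hs⟩ := (Module.finite_def.mp ‹Module.Finite A M›)
  choose t ht ht' using fun m : M => hsupp (N.mkQ m)
  refine ⟨∏ m ∈ s, t m, fun hm => ?_, fun m => ?_⟩
  · obtain ⟨m, -, hm⟩ := (Ideal.IsPrime.prod_mem_iff (p := q)).mp hm
    exact ht m hm
  · have : m ∈ Submodule.span A (s : Set M) := hs ▸ trivial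
    induction this using Submodule.span_induction with
    | mem m hm =>
      rw [← (Submodule.Quotient.mk_eq_zero N), Submodule.Quotient.mk_smul]
      obtain ⟨d, hd⟩ := Finset.dvd_prod_of_mem t (Finset.mem_coe.mp hm)
      rw [hd, mul_comm, mul_smul, ← Submodule.mkQ_apply, ht', smul_zero]
    | zero => rw [smul_zero]; exact N.zero_mem
    | add a b _ _ ha hb => rw [smul_add]; exact N.add_mem ha hb
    | smul c a _ ha => rw [smul_comm]; exact N.smul_mem c ha

theorem exists_interior {A C : Type u} [CommRing A] [Nontrivial A] [CommRing C] [Algebra A C]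
    [Module.Finite A C] (J : Ideal C)
    (hker : J.comap (algebraMap A C) ≤ nilradical A) :
    ∃ c : C, (∀ P : PrimeSpectrum C, c ∉ P.asIdeal → J ≤ P.asIdeal) ∧
      ∃ P : PrimeSpectrum C, c ∉ P.asIdeal := by
  classical
  let M := C ⧸ J
  let rk : PrimeSpectrum A → ℕ := fun q =>
    Module.finrank q.asIdeal.ResidueField (q.asIdeal.ResidueField ⊗[A] M)
  obtain ⟨q, hq⟩ : ∃ q : PrimeSpectrum A, ∀ q', rk q ≤ rk q' :=
    ⟨Function.argmin rk, fun q' => not_lt.mp (Function.not_lt_argmin rk q')⟩
  obtain ⟨v, hv⟩ := exists_basis_tmul (A := A) (M := M) q.asIdeal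
  obtain ⟨f, hf, hfv⟩ := exists_smul_mem_span q.asIdeal v hv
  -- relations among `v` are killed near `q`
  have hrel : ∀ a : Fin (rk q) → A, ∑ i, a i • v i = 0 → ∀ i, IsNilpotent (f * a i) := by
    intro a ha i
    rw [nilpotent_iff_mem_prime]
    intro P hP
    by_cases hfP : f ∈ P
    · exact P.mul_mem_right _ hfP
    refine P.mul_mem_left f ?_
    let V := P.ResidueField ⊗[A] M
    let u : Fin (rk q) → V := fun i => 1 ⊗ₜ v i
    have hspan : ⊤ ≤ Submodule.span P.ResidueField (Set.range u) := by
      intro z _
      induction z using TensorProduct.induction_on with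
      | zero => exact Submodule.zero_mem _
      | tmul k m =>
        have hmem : ∀ x ∈ Submodule.span A (Set.range v),
            (1 : P.ResidueField) ⊗ₜ[A] x ∈ Submodule.span P.ResidueField (Set.range u) := by
          intro x hx
          induction hx using Submodule.span_induction with
          | mem x hx => obtain ⟨i, rfl⟩ := hx; exact Submodule.subset_span ⟨i, rfl⟩
          | zero => rw [TensorProduct.tmul_zero]; exact Submodule.zero_mem _
          | add a b _ _ ha hb => rw [TensorProduct.tmul_add]; exact Submodule.add_mem _ ha hb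
          | smul c a _ ha =>
            rw [TensorProduct.tmul_smul, ← algebraMap_smul P.ResidueField c]
            exact Submodule.smul_mem _ _ ha
        have hu : algebraMap A P.ResidueField f ≠ 0 := by
          rw [Ne, Ideal.algebraMap_residueField_eq_zero]
          exact hfP
        have := Submodule.smul_mem _ (k * (algebraMap A P.ResidueField f)⁻¹) (hmem _ (hfv m))
        rw [TensorProduct.tmul_smul, ← algebraMap_smul P.ResidueField f, smul_smul, mul_assoc,
          inv_mul_cancel₀ hu, mul_one, smul_tmul', smul_eq_mul, mul_one] at this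
        exact this
      | add x y hx hy => exact Submodule.add_mem _ (hx trivial) (hy trivial)
    have hcard : Fintype.card (Fin (rk q)) = Module.finrank P.ResidueField V := by
      refine le_antisymm ?_ ?_
      · rw [Fintype.card_fin]; exact hq ⟨P, hP⟩
      · have := finrank_range_le_card (R := P.ResidueField) u
        rw [Set.finrank, le_antisymm le_top hspan, finrank_top] at this
        exact this
    have hli := linearIndependent_of_top_le_span_of_card_eq_finrank hspan hcard
    have h0 : ∑ i, algebraMap A P.ResidueField (a i) • u i = 0 := by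
      have := congrArg (fun x : M => (1 : P.ResidueField) ⊗ₜ[A] x) ha
      simpa [u, TensorProduct.tmul_sum, algebraMap_smul] using this
    exact Ideal.algebraMap_residueField_eq_zero.mp (Fintype.linearIndependent_iff.mp hli _ h0 i)
  -- a finitely generated approximation of `J`
  obtain ⟨sC, hsC⟩ := (Module.finite_def.mp ‹Module.Finite A C›)
  choose w hw using fun i => Ideal.Quotient.mk_surjective (v i)
  have hco : ∀ x : C, ∃ a : Fin (rk q) → A, f • x - ∑ i, a i • w i ∈ J := by
    intro x
    obtain ⟨a, ha⟩ := (Submodule.mem_span_range_iff_exists_fun A).mp (hfv (Ideal.Quotient.mk J x))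
    refine ⟨a, Ideal.Quotient.eq_zero_iff_mem.mp ?_⟩
    rw [map_sub, map_sum, sub_eq_zero]
    have hm : ∀ (b : A) (y : C), Ideal.Quotient.mk J (b • y) = b • Ideal.Quotient.mk J y :=
      fun b y => rfl
    rw [hm, ← ha]
    exact Finset.sum_congr rfl fun i _ => by rw [hm, hw]
  choose a ha using hco
  let gens : Finset C := sC.image fun x => f • x - ∑ i, a x i • w i
  have hgens : ∀ g ∈ gens, g ∈ J := fun g hg => by
    obtain ⟨x, -, rfl⟩ := Finset.mem_image.mp hg
    exact ha x
  have happrox : ∀ x ∈ J, ∀ P : PrimeSpectrum C,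
      (gens : Set C) ⊆ P.asIdeal → algebraMap A C f ∉ P.asIdeal → x ∈ P.asIdeal := by
    intro x hx P hP hfP
    obtain ⟨b, hb⟩ := Submodule.mem_span_finset.mp (show x ∈ Submodule.span A (sC : Set C) from hsC ▸ trivial)
    have e : f • x = (∑ y ∈ sC, b y • (f • y - ∑ i, a y i • w i)) +
        ∑ i, (∑ y ∈ sC, b y * a y i) • w i := by
      rw [← hb.2]
      simp only [smul_sub, Finset.sum_sub_distrib, Finset.smul_sum, Finset.sum_smul, mul_smul]
      rw [Finset.sum_comm (s := Finset.univ) (t := sC)]
      rw [sub_add_cancel]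
      exact Finset.sum_congr rfl fun y _ => smul_comm _ _ _
    let co : Fin (rk q) → A := fun i => ∑ y ∈ sC, b y * a y i
    have h1 : (∑ y ∈ sC, b y • (f • y - ∑ i, a y i • w i)) ∈ P.asIdeal :=
      Submodule.sum_mem _ fun y hy => Submodule.smul_of_tower_mem _ _ (hP (Finset.mem_image_of_mem _ hy))
    have h2 : ∑ i, co i • v i = 0 := by
      have h3 : (∑ i, co i • w i) ∈ J := by
        have : (∑ i, co i • w i) = f • x - ∑ y ∈ sC, b y • (f • y - ∑ i, a y i • w i) := by
          rw [e]; exact (add_sub_cancel_left _ _).symm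
        rw [this]
        exact J.sub_mem (Submodule.smul_of_tower_mem _ _ hx)
          (Submodule.sum_mem _ fun y _ => Submodule.smul_of_tower_mem _ _ (ha y))
      rw [← Ideal.Quotient.eq_zero_iff_mem, map_sum] at h3
      refine Eq.trans (Finset.sum_congr rfl fun i _ => ?_) h3
      rw [← hw i]; rfl
    have h4 : f • (∑ i, co i • w i) ∈ P.asIdeal := by
      rw [Finset.smul_sum]
      refine Submodule.sum_mem _ fun i _ => ?_
      rw [smul_smul, Algebra.smul_def]
      exact P.asIdeal.mul_mem_right _
        (nilpotent_iff_mem_prime.mp ((hrel co h2 i).map (algebraMap A C)) _ P.isPrime)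
    have h5 : f • f • x ∈ P.asIdeal := by
      rw [e, smul_add]
      exact P.asIdeal.add_mem (Submodule.smul_of_tower_mem _ _ h1) h4
    rw [Algebra.smul_def, Algebra.smul_def] at h5
    exact (P.isPrime.mem_or_mem ((P.isPrime.mem_or_mem h5).resolve_left hfP)).resolve_left hfP
  -- a minimal prime near `q`
  obtain ⟨η, hη, hηq⟩ := Ideal.exists_minimalPrimes_le (I := (⊥ : Ideal A)) (J := q.asIdeal) bot_le
  have : η.IsPrime := hη.1.1
  have hfη : f ∉ η := fun h => hf (hηq h)
  have hηmin : ∀ p : Ideal A, p.IsPrime → p ≤ η → p = η := fun p hp hle =>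
    le_antisymm hle (hη.2 ⟨hp, bot_le⟩ hle)
  -- each generator is locally idempotent up to nilpotents
  have hkey : ∀ g : C, ∃ t ∉ η, ∃ y : C, ∀ P : PrimeSpectrum C,
      algebraMap A C t - g * y ∉ P.asIdeal → g ∈ P.asIdeal := by
    intro g
    let F := η.Fiber C
    have : IsArtinianRing F := isArtinian_of_tower η.ResidueField inferInstance
    obtain ⟨y₀, hy₀⟩ : ∃ y₀, IsNilpotent ((1 ⊗ₜ g : F) - (1 ⊗ₜ g) * (1 ⊗ₜ g) * y₀) := by
      let Q := F ⧸ nilradical F
      have : IsReduced Q := (Ideal.isRadical_iff_quotient_reduced _).mp (Ideal.radical_isRadical _)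
      have : IsArtinianRing Q := inferInstance
      let E := IsArtinianRing.equivPi Q
      let x : Q := Ideal.Quotient.mk _ (1 ⊗ₜ g)
      have hreg : x * x * E.symm (fun m => if h : E x m = 0 then 0 else
          Classical.choose ((Ideal.Quotient.maximal_ideal_iff_isField_quotient m.asIdeal).mp
            m.isMaximal |>.mul_inv_cancel h)) = x := by
        apply E.injective
        rw [map_mul, map_mul, AlgEquiv.apply_symm_apply]
        ext m
        by_cases h : E x m = 0
        · simp [h]
        · simp only [Pi.mul_apply, dif_neg h]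
          rw [mul_assoc, Classical.choose_spec
            ((Ideal.Quotient.maximal_ideal_iff_isField_quotient m.asIdeal).mp m.isMaximal
              |>.mul_inv_cancel h), mul_one]
      obtain ⟨y₀, hy₀⟩ := Ideal.Quotient.mk_surjective (I := nilradical F) (E.symm _)
      refine ⟨y₀, mem_nilradical.mp (Ideal.Quotient.eq_zero_iff_mem.mp ?_)⟩
      rw [map_sub, map_mul, map_mul, hy₀, sub_eq_zero]
      exact hreg.symm
    obtain ⟨t, ht, y, hy⟩ := Ideal.Fiber.exists_smul_eq_one_tmul (R := A) (p := η) y₀
    let e := algebraMap A C t * g - g * g * y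
    have he : ∀ P : PrimeSpectrum C, P.asIdeal.comap (algebraMap A C) = η → e ∈ P.asIdeal := by
      intro P hP
      have : IsNilpotent ((1 : η.ResidueField) ⊗ₜ[A] e : F) := by
        have h' : ((1 : η.ResidueField) ⊗ₜ[A] e : F) =
            t • ((1 ⊗ₜ g : F) - (1 ⊗ₜ g) * (1 ⊗ₜ g) * y₀) := by
          rw [smul_sub, ← mul_smul_comm, hy, Algebra.TensorProduct.tmul_mul_tmul,
            Algebra.TensorProduct.tmul_mul_tmul, one_mul, mul_one, ← TensorProduct.tmul_smul,
            ← TensorProduct.tmul_sub, Algebra.smul_def]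
        rw [h', Algebra.smul_def]
        exact Commute.isNilpotent_mul_left (Commute.all _ _) hy₀
      obtain ⟨P', hP'⟩ : ∃ P' : PrimeSpectrum F,
          PrimeSpectrum.comap (Algebra.TensorProduct.includeRight : C →ₐ[A] F).toRingHom P' = P := by
        refine ⟨PrimeSpectrum.preimageEquivFiber A C ⟨η, inferInstance⟩ ⟨P, PrimeSpectrum.ext hP⟩, ?_⟩
        exact congrArg Subtype.val
          ((PrimeSpectrum.preimageEquivFiber A C ⟨η, inferInstance⟩).symm_apply_apply _)
      rw [← hP']
      exact nilpotent_iff_mem_prime.mp this _ P'.isPrime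
    -- spread out
    obtain ⟨t', ht', hnil⟩ : ∃ t' ∉ η, IsNilpotent (algebraMap A C t' * e) := by
      by_contra hcon
      push Not at hcon
      let S : Submonoid C := η.primeCompl.map (algebraMap A C) ⊔ Submonoid.powers e
      obtain ⟨P, hP, -, hPS⟩ := Ideal.exists_le_prime_disjoint (⊥ : Ideal C) S (by
        rw [Set.disjoint_left]
        intro z (hz : z ∈ (⊥ : Ideal C)) hzS
        obtain ⟨_, ⟨s, hs, rfl⟩, _, ⟨n, rfl⟩, rfl⟩ := Submonoid.mem_sup.mp hzS
        refine hcon s hs ⟨n + 1, ?_⟩
        rw [Ideal.mem_bot] at hz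
        rw [mul_pow, pow_succ e, pow_succ (algebraMap A C s)]
        linear_combination (algebraMap A C s ^ n * e) * hz)
      rw [Set.disjoint_left] at hPS
      have hcomap : P.comap (algebraMap A C) = η := hηmin _ (Ideal.IsPrime.comap _) fun s hs => by
        by_contra hsη
        exact hPS hs (Submonoid.mem_sup_left ⟨s, hsη, rfl⟩)
      exact hPS (he ⟨P, hP⟩ hcomap) (Submonoid.mem_sup_right ⟨1, pow_one e⟩)
    refine ⟨t' * t, fun h => ((Ideal.IsPrime.mem_or_mem ‹_› h)).elim ht' ht,
      algebraMap A C t' * y, fun P hP => ?_⟩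
    have : (algebraMap A C (t' * t) - g * (algebraMap A C t' * y)) * g ∈ P.asIdeal := by
      have := nilpotent_iff_mem_prime.mp hnil _ P.isPrime
      convert this using 1
      simp only [e, map_mul]; ring
    exact (P.isPrime.mem_or_mem this).resolve_left hP
  choose t ht y hy using hkey
  let c : C := algebraMap A C f * ∏ g ∈ gens, (algebraMap A C (t g) - g * y g)
  refine ⟨c, fun P hP x hx => happrox x hx P (fun g hg => hy g P fun h => hP ?_) (fun h => hP ?_), ?_⟩
  · exact P.asIdeal.mul_mem_left _ (P.isPrime.prod_mem_iff.mpr ⟨g, hg, h⟩)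
  · exact P.asIdeal.mul_mem_right _ h
  · obtain ⟨P, hP, hJP, hPη⟩ := Ideal.exists_comap_eq_of_mem_minimalPrimes (I := J) (algebraMap A C) η
      ⟨⟨inferInstance, hker.trans (nilradical_le_prime η)⟩, fun p hp hle => (hηmin p hp.1 hle).ge⟩
    refine ⟨⟨P, hP⟩, fun hc => ?_⟩
    have hnot : ∀ s : A, s ∉ η → algebraMap A C s ∉ P := fun s hs h => hs (hPη ▸ h)
    rcases hP.mem_or_mem hc with h | h
    · exact hnot f hfη h
    · obtain ⟨g, hg, h⟩ := hP.prod_mem_iff.mp h
      exact hnot (t g) (ht g) (by simpa using P.add_mem h (P.mul_mem_right (y g) (hJP (hgens g hg))))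

end Groth.Agent.H56.NowhereDense
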