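import Mathlib.AlgebraicGeometry.PullbackCarrier
import Mathlib.AlgebraicGeometry.Morphisms.SurjectiveOnStalks
import Mathlib.AlgebraicGeometry.Morphisms.Preimmersion
import Mathlib.FieldTheory.PurelyInseparable.PerfectClosure
import Mathlib.FieldTheory.Normal.Closure
import Mathlib.FieldTheory.SeparableClosure
import Mathlib.FieldTheory.IsAlgClosed.AlgebraicClosure

/-!
Residue fields of points of a fibre product over a field which splits the separable part.
-/

open CategoryTheory AlgebraicGeometry Limits Polynomial

universe u

namespace Groth.Agent.H56.PointSplit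

/-- If `C` is generated by `A` and `B` over `K`, `A/K` is finite and `B` splits the separable
part of `A`, then `C/B` is finite purely inseparable. -/
theorem finite_isPurelyInseparable_of_splits {K A B C : Type u} [Field K] [Field A] [Field B]
    [Field C] [Algebra K A] [Algebra K B] [Algebra K C] [Algebra B C] [IsScalarTower K B C]
    [FiniteDimensional K A] (p : A →ₐ[K] C)
    (hgen : ∀ T : Subfield C, (∀ a, p a ∈ T) → (∀ b, algebraMap B C b ∈ T) → T = ⊤)
    (hsplit : ∀ y : A, IsSeparable K y → ((minpoly K y).map (algebraMap K B)).Splits) :
    Module.Finite B C ∧ IsPurelyInseparable B C := by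
  have hint : ∀ a, IsIntegral B (p a) := fun a =>
    ((Algebra.IsIntegral.isIntegral (R := K) a).map p).tower_top
  constructor
  · let b := Module.finBasis K A
    let T := IntermediateField.adjoin B (Set.range fun i => p (b i))
    have : FiniteDimensional B T :=
      IntermediateField.finiteDimensional_adjoin (by rintro _ ⟨i, rfl⟩; exact hint _)
    have hT : T = ⊤ := by
      have h := hgen T.toSubfield (fun a => ?_) (fun x => T.algebraMap_mem x)
      · exact SetLike.ext fun x => ⟨fun _ => trivial, fun _ => (h.ge (Subfield.mem_top x) :)⟩
      · rw [← b.sum_repr a, map_sum]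
        refine T.toSubfield.sum_mem fun i _ => ?_
        rw [map_smul, Algebra.smul_def, IsScalarTower.algebraMap_apply K B C]
        exact T.mul_mem (T.algebraMap_mem _) (IntermediateField.subset_adjoin _ _ ⟨i, rfl⟩)
    exact Module.Finite.equiv
      ((IntermediateField.equivOfEq hT).trans IntermediateField.topEquiv).toLinearEquiv
  · rw [isPurelyInseparable_iff_perfectClosure_eq_top]
    have h := hgen (perfectClosure B C).toSubfield (fun a => ?_)
      (fun x => (perfectClosure B C).algebraMap_mem x)
    · exact SetLike.ext fun x => ⟨fun _ => trivial, fun _ => (h.ge (Subfield.mem_top x) :)⟩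
    obtain ⟨n, y, hy⟩ := IsPurelyInseparable.pow_mem (separableClosure K A) (ringExpChar K) a
    have : ExpChar B (ringExpChar K) :=
      expChar_of_injective_ringHom (algebraMap K B).injective _
    refine (mem_perfectClosure_iff_pow_mem (ringExpChar K)).mpr ⟨n, ?_⟩
    rw [← map_pow, ← hy]
    have hsep : IsSeparable K (y : A) := mem_separableClosure_iff.mp y.2
    refine (hsplit _ hsep).mem_range_of_isRoot ?_ ?_
    · exact Polynomial.map_ne_zero (minpoly.ne_zero hsep.isIntegral)
    · show IsRoot _ (p (y : A))
      rw [Polynomial.IsRoot.def, eval_map, eval₂_map, ← IsScalarTower.algebraMap_eq, ← aeval_def,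
        aeval_algHom_apply, minpoly.aeval, map_zero]

/-- A finite separable extension splitting all separable elements of finitely many finite
extensions. -/
theorem exists_splitting_field (K : Type u) [Field K] {ι : Type} [Finite ι] (A : ι → Type u)
    [∀ i, Field (A i)] [∀ i, Algebra K (A i)] [∀ i, FiniteDimensional K (A i)] :
    ∃ (k : Type u) (_ : Field k) (_ : Algebra K k), FiniteDimensional K k ∧
      Algebra.IsSeparable K k ∧
      ∀ i (y : A i), IsSeparable K y → ((minpoly K y).map (algebraMap K k)).Splits := by
  let Ω := AlgebraicClosure K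
  let N : ι → IntermediateField K Ω := fun i =>
    IntermediateField.normalClosure K (separableClosure K (A i)) Ω
  let k : IntermediateField K Ω := ⨆ i, N i
  have : FiniteDimensional K k := IntermediateField.finiteDimensional_iSup_of_finite
  have hsep : Algebra.IsSeparable K k := by
    rw [← le_separableClosure_iff]
    refine iSup_le fun i => normalClosure_le_iff.mpr fun σ => ?_
    rintro _ ⟨z, rfl⟩
    exact mem_separableClosure_iff.mpr
      ((Algebra.IsSeparable.isSeparable K z).map σ σ.toRingHom.injective)
  refine ⟨k, inferInstance, inferInstance, inferInstance, hsep, fun i y hy => ?_⟩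
  let z : separableClosure K (A i) := ⟨y, mem_separableClosure_iff.mpr hy⟩
  have hz : minpoly K z = minpoly K y :=
    (minpoly.algHom_eq (separableClosure K (A i)).val Subtype.val_injective z).symm
  let σ : separableClosure K (A i) →ₐ[K] N i :=
    (normalClosure.algHomEquiv K (separableClosure K (A i)) Ω).symm IsAlgClosed.lift
  have h := Normal.splits (F := K) (K := N i) inferInstance (σ z)
  rw [minpoly.algHom_eq σ σ.toRingHom.injective z, hz] at h
  have h' := h.map (IntermediateField.inclusion (le_iSup N i)).toRingHom
  rw [Polynomial.map_map] at h'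
  convert h' using 3
  exact RingHom.ext fun _ => rfl

variable {X Y S : Scheme.{u}} {f : X ⟶ S} {g : Y ⟶ S}

theorem subfield_eq_top_of_mem (w : ↑(pullback f g)) (T : Subfield ((pullback f g).residueField w))
    (h₁ : ∀ a, (pullback.fst f g).residueFieldMap w a ∈ T)
    (h₂ : ∀ b, (pullback.snd f g).residueFieldMap w b ∈ T) : T = ⊤ := by
  let φ := Scheme.Pullback.ofPointTensor w
  let T₀ := Scheme.Pullback.Triplet.ofPoint w
  have hφ : ∀ t, φ.hom t ∈ T := by
    let ι' : CommRingCat.of T ⟶ (pullback f g).residueField w := CommRingCat.ofHom T.subtype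
    have hmono : Mono ι' := ConcreteCategory.mono_of_injective ι' Subtype.val_injective
    let a' : X.residueField T₀.x ⟶ CommRingCat.of T :=
      CommRingCat.ofHom (((pullback.fst f g).residueFieldMap w).hom.codRestrict T h₁)
    let b' : Y.residueField T₀.y ⟶ CommRingCat.of T :=
      CommRingCat.ofHom (((pullback.snd f g).residueFieldMap w).hom.codRestrict T h₂)
    have ha' : a' ≫ ι' = (pullback.fst f g).residueFieldMap w := rfl
    have hb' : b' ≫ ι' = (pullback.snd f g).residueFieldMap w := rfl
    let d : T₀.tensor ⟶ CommRingCat.of T := pushout.desc a' b' (by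
      simp only [← cancel_mono ι', Category.assoc, ha', hb']
      exact Scheme.Pullback.residueFieldCongr_inv_residueFieldMap_ofPoint w)
    have hd : d ≫ ι' = φ := by
      apply pushout.hom_ext
      · exact ((pushout.inl_desc_assoc a' b' _ ι').trans ha').trans (pushout.inl_desc _ _ _).symm
      · exact ((pushout.inr_desc_assoc a' b' _ ι').trans hb').trans (pushout.inr_desc _ _ _).symm
    intro t
    rw [← hd]
    exact (d.hom t).2
  have : SurjectiveOnStalks (Spec.map φ ≫ T₀.SpecTensorTo) := by
    rw [Scheme.Pullback.ofPointTensor_SpecTensorTo]; infer_instance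
  have hs : φ.hom.SurjectiveOnStalks :=
    SurjectiveOnStalks.Spec_iff.mp (SurjectiveOnStalks.of_comp (Spec.map φ) T₀.SpecTensorTo)
  refine eq_top_iff.mpr fun c _ => ?_
  obtain ⟨a, b, e, he, hb, heq⟩ :=
    RingHom.surjectiveOnStalks_iff_forall_ideal.mp hs ⊥ bot_ne_top c
  rw [Ideal.mem_bot] at he hb
  rw [mul_assoc] at heq
  have : c = φ.hom a * (φ.hom b)⁻¹ := by
    rw [← mul_left_cancel₀ he heq, mul_comm, ← mul_assoc, inv_mul_cancel₀ hb, one_mul]
  rw [this]
  exact T.mul_mem (hφ a) (T.inv_mem (hφ b))

/-- Residue field of a point of a fibre product over an extension splitting the separable part. -/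
theorem finite_isPurelyInseparable_snd (w : ↑(pullback f g)) (s : S)
    (hs : f (pullback.fst f g w) = s) (hg : g (pullback.snd f g w) = s)
    (hfin : (f.residueFieldMap (pullback.fst f g w)).hom.Finite)
    (k : Type u) [Field k] [Algebra (S.residueField s) k]
    (φ : k →+* Y.residueField (pullback.snd f g w))
    (hφ : φ.comp (algebraMap (S.residueField s) k) =
      ((S.residueFieldCongr hg).inv ≫ g.residueFieldMap (pullback.snd f g w)).hom)
    (hsplit : letI := ((S.residueFieldCongr hs).inv ≫
        f.residueFieldMap (pullback.fst f g w)).hom.toAlgebra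
      ∀ y : X.residueField (pullback.fst f g w), IsSeparable (S.residueField s) y →
        ((minpoly (S.residueField s) y).map (algebraMap (S.residueField s) k)).Splits) :
    letI := ((pullback.snd f g).residueFieldMap w).hom.toAlgebra
    Module.Finite ↑(Y.residueField (pullback.snd f g w)) ↑((pullback f g).residueField w) ∧
      IsPurelyInseparable ↑(Y.residueField (pullback.snd f g w))
        ↑((pullback f g).residueField w) := by
  subst hs
  have hcompat := Scheme.Pullback.residueFieldCongr_inv_residueFieldMap_ofPoint w
  let a := (f.residueFieldMap (pullback.fst f g w)).hom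
  let b := ((S.residueFieldCongr hg).inv ≫ g.residueFieldMap (pullback.snd f g w)).hom
  let q := ((pullback.snd f g).residueFieldMap w).hom
  letI := a.toAlgebra
  letI := b.toAlgebra
  letI := q.toAlgebra
  letI := (q.comp b).toAlgebra
  have : IsScalarTower (S.residueField (f (pullback.fst f g w)))
      (Y.residueField (pullback.snd f g w)) ((pullback f g).residueField w) :=
    .of_algebraMap_eq fun _ => rfl
  have : FiniteDimensional (S.residueField (f (pullback.fst f g w)))
      (X.residueField (pullback.fst f g w)) := hfin
  refine finite_isPurelyInseparable_of_splits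
    ({ toRingHom := ((pullback.fst f g).residueFieldMap w).hom
       commutes' := fun r => ?_ } :
      X.residueField (pullback.fst f g w) →ₐ[S.residueField (f (pullback.fst f g w))]
        (pullback f g).residueField w)
    (fun T h₁ h₂ => subfield_eq_top_of_mem w T h₁ h₂) (fun y hy => ?_)
  · exact congr($hcompat r)
  · have h := (hsplit y hy).map φ
    rw [Polynomial.map_map, hφ] at h
    exact h

end Groth.Agent.H56.PointSplit
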