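import Mathlib.AlgebraicGeometry.ResidueField
import Mathlib.AlgebraicGeometry.Morphisms.Etale
import Mathlib.RingTheory.Etale.StandardEtale
import Mathlib.RingTheory.Polynomial.ScaleRoots
import Mathlib.FieldTheory.PrimitiveElement

/-!
Étale neighbourhoods with prescribed finite separable residue field extension.
-/

open CategoryTheory AlgebraicGeometry Polynomial

universe u

namespace Groth.Agent.H56.SepExt

theorem exists_standardEtale {R : Type u} [CommRing R] {K : Type u} [Field K] (ev : R →+* K)
    (hev : ∀ z : K, ∃ a b, ev b ≠ 0 ∧ z * ev b = ev a) (k : Type u) [Field k] [Algebra K k]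
    [FiniteDimensional K k] [Algebra.IsSeparable K k] :
    ∃ (R' : Type u) (_ : CommRing R') (_ : Algebra R R') (_ : Algebra.Etale R R') (φ : R' →+* k),
      φ.comp (algebraMap R R') = (algebraMap K k).comp ev ∧
      ∀ T : Subfield k, (∀ a, φ a ∈ T) → T = ⊤ := by
  classical
  obtain ⟨α, hα⟩ := Field.exists_primitive_element K k
  let m := minpoly K α
  have hm : m.Monic := minpoly.monic (Algebra.IsIntegral.isIntegral α)
  -- a common denominator for the coefficients
  choose a b hb hab using fun i => hev (m.coeff i)
  let d := ∏ i ∈ Finset.range (m.natDegree + 1), b i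
  have hd : ev d ≠ 0 := by
    rw [map_prod]
    exact Finset.prod_ne_zero_iff.mpr fun i _ => hb i
  let m' := m.scaleRoots (ev d)
  have hm' : m'.Monic := (monic_scaleRoots_iff _).mpr hm
  have hlifts : m' ∈ lifts ev := by
    rw [lifts_iff_coeff_lifts]
    intro i
    rw [coeff_scaleRoots]
    rcases lt_trichotomy i m.natDegree with hi | hi | hi
    · obtain ⟨c, hc⟩ : b i ∣ d ^ (m.natDegree - i) :=
        (Finset.dvd_prod_of_mem _ (Finset.mem_range.mpr (by omega))).trans
          (dvd_pow_self _ (by omega))
      refine ⟨a i * c, ?_⟩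
      rw [← map_pow, hc, map_mul, map_mul, ← hab i, mul_assoc]
    · subst hi
      rw [hm.coeff_natDegree, Nat.sub_self, pow_zero, mul_one]
      exact ⟨1, map_one _⟩
    · rw [coeff_eq_zero_of_natDegree_lt hi, zero_mul]
      exact ⟨0, map_zero _⟩
  obtain ⟨P, hP, -, hPm⟩ := lifts_and_natDegree_eq_and_monic hlifts hm'
  let S : StandardEtalePair R := ⟨P, hPm, derivative P, 1, 0, 1, by simp⟩
  letI : Algebra R k := ((algebraMap K k).comp ev).toAlgebra
  have haeval : ∀ (q : R[X]) (x : k), aeval x q = aeval x (q.map ev) := fun q x => by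
    simp [aeval_def, eval₂_map, RingHom.algebraMap_toAlgebra]
  let α' : k := algebraMap K k (ev d) * α
  have hroot : aeval α' m' = 0 := scaleRoots_aeval_eq_zero (minpoly.aeval K α)
  have hsep : aeval α' (derivative m') ≠ 0 := by
    have hα' : IsSeparable K α' := Algebra.IsSeparable.isSeparable K α'
    have hdvd : minpoly K α' ∣ m' := minpoly.dvd K α' hroot
    have hdeg : m'.natDegree ≤ (minpoly K α').natDegree := by
      rw [natDegree_scaleRoots]
      have hαα' : IntermediateField.adjoin K {α'} = ⊤ := by
        rw [← hα]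
        refine le_antisymm (hα ▸ le_top) (IntermediateField.adjoin_simple_le_iff.mpr ?_)
        have h1 : α = algebraMap K k (ev d)⁻¹ * α' := by
          rw [← mul_assoc, ← map_mul, inv_mul_cancel₀ hd, map_one, one_mul]
        rw [h1]
        exact mul_mem (IntermediateField.algebraMap_mem _ _)
          (IntermediateField.mem_adjoin_simple_self K α')
      rw [show m.natDegree = (minpoly K α).natDegree from rfl,
        ← IntermediateField.adjoin.finrank (Algebra.IsIntegral.isIntegral α),
        ← IntermediateField.adjoin.finrank (Algebra.IsIntegral.isIntegral α'), hα, hαα']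
    rw [eq_of_monic_of_dvd_of_natDegree_le (minpoly.monic (Algebra.IsIntegral.isIntegral α')) hm'
      hdvd hdeg]
    exact hα'.aeval_derivative_ne_zero (minpoly.aeval K α')
  have hmap : S.HasMap α' := by
    refine ⟨?_, isUnit_iff_ne_zero.mpr ?_⟩
    · rw [haeval, hP]; exact hroot
    · rw [haeval, ← derivative_map, hP]; exact hsep
  refine ⟨S.Ring, inferInstance, inferInstance, inferInstance, (S.lift α' hmap).toRingHom,
    (S.lift α' hmap).comp_algebraMap, fun T hT => ?_⟩
  have hα'T : α' ∈ T := by
    have h := hT S.X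
    rwa [AlgHom.toRingHom_eq_coe, RingHom.coe_coe, StandardEtalePair.lift_X] at h
  have hKT : ∀ z : K, algebraMap K k z ∈ T := by
    intro z
    obtain ⟨a, b, hb, hz⟩ := hev z
    have ha' : algebraMap K k (ev a) ∈ T := by
      have := hT (algebraMap R S.Ring a)
      rwa [AlgHom.toRingHom_eq_coe, RingHom.coe_coe, AlgHom.commutes] at this
    have hb' : algebraMap K k (ev b) ∈ T := by
      have := hT (algebraMap R S.Ring b)
      rwa [AlgHom.toRingHom_eq_coe, RingHom.coe_coe, AlgHom.commutes] at this
    have : algebraMap K k z = algebraMap K k (ev a) * (algebraMap K k (ev b))⁻¹ := by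
      rw [← map_inv₀, ← map_mul, ← hz, mul_inv_cancel_right₀ hb]
    rw [this]
    exact mul_mem ha' (inv_mem hb')
  let T' : IntermediateField K k := T.toIntermediateField hKT
  have hαT : α ∈ T' := by
    have h1 : α = algebraMap K k (ev d)⁻¹ * α' := by
      rw [← mul_assoc, ← map_mul, inv_mul_cancel₀ hd, map_one, one_mul]
    rw [h1]
    exact mul_mem (hKT _) hα'T
  have htop : T' = ⊤ := top_le_iff.mp (hα ▸ IntermediateField.adjoin_simple_le_iff.mpr hαT)
  exact eq_top_iff.mpr fun x _ => htop.ge (IntermediateField.mem_top (x := x))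

set_option backward.isDefEq.respectTransparency.types false in
/-- An étale neighbourhood realising a finite separable extension of the residue field. -/
theorem exists_etale_nbhd_residueField (S : Scheme.{u}) (s : S) (k : Type u) [Field k]
    [Algebra (S.residueField s) k] [FiniteDimensional (S.residueField s) k]
    [Algebra.IsSeparable (S.residueField s) k] :
    ∃ (U : Scheme.{u}) (g : U ⟶ S) (u : U) (hu : g u = s), Etale g ∧
      ∃ e : U.residueField u ⟶ CommRingCat.of k, Function.Bijective e.hom ∧
        ((S.residueFieldCongr hu).inv ≫ g.residueFieldMap u) ≫ e =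
          CommRingCat.ofHom (algebraMap (S.residueField s) k) := by
  obtain ⟨_, ⟨V, hV, rfl⟩, hsV, -⟩ := S.isBasis_affineOpens.exists_subset_of_mem_open
    (Set.mem_univ s) isOpen_univ
  let ev : Γ(S, V) →+* S.residueField s := (S.evaluation V s hsV).hom
  have hev : ∀ z, ∃ a b, ev b ≠ 0 ∧ z * ev b = ev a := by
    intro z
    obtain ⟨y, rfl⟩ := S.residue_surjective s z
    let := TopCat.Presheaf.algebra_section_stalk S.presheaf ⟨s, hsV⟩
    have hl : IsLocalization (hV.primeIdealOf ⟨s, hsV⟩).asIdeal.primeCompl
        (S.presheaf.stalk s) := hV.isLocalization_stalk ⟨s, hsV⟩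
    obtain ⟨⟨a, b⟩, hab⟩ := IsLocalization.surj (hV.primeIdealOf ⟨s, hsV⟩).asIdeal.primeCompl y
    refine ⟨a, b.1, ?_, ?_⟩
    · exact ((IsLocalization.map_units (S.presheaf.stalk s) b).map (S.residue s).hom).ne_zero
    · exact (map_mul (S.residue s).hom y _).symm.trans congr((S.residue s).hom $hab)
  obtain ⟨R', _, _, _, φ, hφ, hgen⟩ := exists_standardEtale ev hev k
  let ψ : Γ(S, V) ⟶ .of R' := CommRingCat.ofHom (algebraMap Γ(S, V) R')
  have : Etale (Spec.map ψ) :=
    HasRingHomProperty.Spec_iff.mpr (RingHom.etale_algebraMap.mpr ‹_›)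
  let g := Spec.map ψ ≫ hV.fromSpec
  let q : Spec (.of k) ⟶ Spec (.of R') := Spec.map (CommRingCat.ofHom φ)
  let al : S.residueField s ⟶ CommRingCat.of k :=
    CommRingCat.ofHom (algebraMap (S.residueField s) k)
  have hev' : S.fromSpecResidueField s = Spec.map (CommRingCat.ofHom ev) ≫ hV.fromSpec := by
    rw [Scheme.fromSpecResidueField, ← hV.fromSpecStalk_eq_fromSpecStalk hsV,
      IsAffineOpen.fromSpecStalk, ← Spec.map_comp_assoc]
    rfl
  have hq : q ≫ g = Spec.map al ≫ S.fromSpecResidueField s := by
    rw [hev', ← Spec.map_comp_assoc, ← Category.assoc, ← Spec.map_comp]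
    congr 2
    ext x
    exact congr($hφ x)
  let u := q (IsLocalRing.closedPoint k)
  have hu : g u = s := by
    rw [← Scheme.Hom.comp_apply, hq, Scheme.Hom.comp_apply]
    exact S.fromSpecResidueField_apply s _
  let e := Scheme.descResidueField (Scheme.stalkClosedPointTo q)
  have hqe : Spec.map e ≫ (Spec (.of R')).fromSpecResidueField u = q :=
    Scheme.descResidueField_stalkClosedPointTo_fromSpecResidueField k _ q
  refine ⟨Spec (.of R'), g, u, hu, inferInstance, e, ⟨e.hom.injective, ?_⟩, ?_⟩
  · intro y
    have : e.hom.fieldRange = ⊤ := hgen _ fun a => by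
      let r : CommRingCat.of R' ⟶ (Spec (.of R')).residueField u :=
        CommRingCat.ofHom (algebraMap R' _) ≫ (Scheme.Spec.residueFieldIso (.of R') u).inv
      have h : r ≫ e = CommRingCat.ofHom φ := by
        apply Spec.map_injective
        rw [Spec.map_comp, Spec.map_comp, Scheme.Spec.map_residueFieldIso_inv_eq_fromSpecResidueField,
          hqe]
      exact ⟨r.hom a, congr($h a)⟩
    have hy : y ∈ e.hom.fieldRange := this ▸ Subfield.mem_top y
    exact hy
  · apply Spec.map_injective
    rw [← cancel_mono (S.fromSpecResidueField s)]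
    show _ = Spec.map al ≫ S.fromSpecResidueField s
    rw [← hq, ← hqe]
    simp only [u, Spec.map_comp, Category.assoc, Scheme.residueFieldCongr_inv,
      Scheme.residueFieldCongr_fromSpecResidueField,
      Scheme.Hom.SpecMap_residueFieldMap_fromSpecResidueField]

end Groth.Agent.H56.SepExt
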