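import Groth.Agent.H56.PointSplit
import Groth.Agent.H56.SepExt
import Groth.Agent.H56.EtaleNbhd
import Groth.Agent.H46.QFin
import Groth.Agent.S1354

/-!
Étale neighbourhoods which split the quasi-finite points over a point purely inseparably.
-/

open CategoryTheory AlgebraicGeometry Limits TopologicalSpace

universe u

namespace Groth.Agent.H56.Split

variable {X Y S : Scheme.{u}}

theorem isClosedImmersion_homOfLE {U V : X.Opens} (h : U ≤ V) (hU : IsClosed (U : Set X)) :
    IsClosedImmersion (X.homOfLE h) := by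
  refine IsClosedImmersion.of_isPreimmersion _ ?_
  have e : Set.range (X.homOfLE h) = V.ι ⁻¹' (U : Set X) := by
    rw [← Scheme.Opens.range_ι U]
    ext z
    constructor
    · rintro ⟨a, rfl⟩
      exact ⟨a, by rw [← Scheme.Hom.comp_apply, Scheme.homOfLE_ι]⟩
    · rintro ⟨a, ha⟩
      exact ⟨a, V.ι.isOpenEmbedding.injective
        (by rw [← Scheme.Hom.comp_apply, Scheme.homOfLE_ι, ha])⟩
  rw [e]
  exact hU.preimage V.ι.continuous

theorem isFinite_sup (p : X ⟶ Y) [IsSeparated p] [LocallyOfFiniteType p] (U V : X.Opens)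
    (hU : IsClopen (U : Set X)) (hV : IsClopen (V : Set X)) (h₁ : IsFinite (U.ι ≫ p))
    (h₂ : IsFinite (V.ι ≫ p)) : IsFinite ((U ⊔ V).ι ≫ p) := by
  have c₁ := isClosedImmersion_homOfLE (le_sup_left : U ≤ U ⊔ V) hU.isClosed
  have c₂ := isClosedImmersion_homOfLE (le_sup_right : V ≤ U ⊔ V) hV.isClosed
  let q := coprod.desc (X.homOfLE (le_sup_left : U ≤ U ⊔ V)) (X.homOfLE (le_sup_right : V ≤ U ⊔ V))
  have hqp : IsFinite (q ≫ (U ⊔ V).ι ≫ p) := by
    rw [coprod.desc_comp, Scheme.homOfLE_ι_assoc, Scheme.homOfLE_ι_assoc]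
    infer_instance
  have hq : Surjective q := by
    refine ⟨fun z => ?_⟩
    rcases z.2 with hz | hz
    · refine ⟨(coprod.inl : _ ⟶ (U : Scheme) ⨿ (V : Scheme)) ⟨z.1, hz⟩, ?_⟩
      rw [← Scheme.Hom.comp_apply, coprod.inl_desc]
      exact (U ⊔ V).ι.isOpenEmbedding.injective
        (by rw [← Scheme.Hom.comp_apply, Scheme.homOfLE_ι]; rfl)
    · refine ⟨(coprod.inr : _ ⟶ (U : Scheme) ⨿ (V : Scheme)) ⟨z.1, hz⟩, ?_⟩
      rw [← Scheme.Hom.comp_apply, coprod.inr_desc]
      exact (U ⊔ V).ι.isOpenEmbedding.injective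
        (by rw [← Scheme.Hom.comp_apply, Scheme.homOfLE_ι]; rfl)
  have : UniversallyClosed ((U ⊔ V).ι ≫ p) := .of_comp_surjective q _
  have : IsProper ((U ⊔ V).ι ≫ p) := { }
  have : LocallyQuasiFinite ((U ⊔ V).ι ≫ p) := by
    refine .of_finite_preimage_singleton _ fun y => ?_
    refine (((q ≫ (U ⊔ V).ι ≫ p).finite_preimage_singleton y).image q).subset fun z hz => ?_
    obtain ⟨a, rfl⟩ := q.surjective z
    exact ⟨a, hz, rfl⟩
  exact IsFinite.of_isProper_of_locallyQuasiFinite _

/-- A finite union of clopen subschemes finite over the base is finite over the base. -/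
theorem isFinite_iSup_clopen {ι : Type*} [Finite ι] (p : X ⟶ Y) [IsSeparated p]
    [LocallyOfFiniteType p] (V : ι → X.Opens)
    (hcl : ∀ i, IsClopen (V i : Set X)) (hfin : ∀ i, IsFinite ((V i).ι ≫ p)) :
    IsFinite ((⨆ i, V i).ι ≫ p) := by
  classical
  have := Fintype.ofFinite ι
  have key : ∀ F : Finset ι, IsClopen ((F.sup V : X.Opens) : Set X) ∧
      IsFinite ((F.sup V).ι ≫ p) := by
    intro F
    induction F using Finset.induction_on with
    | empty =>
      refine ⟨by simpa using isClopen_empty, ?_⟩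
      rw [Finset.sup_empty]
      have : IsEmpty (⊥ : X.Opens).toScheme := ⟨fun z => z.2⟩
      infer_instance
    | insert i F hi ih =>
      rw [Finset.sup_insert]
      refine ⟨by simpa using (hcl i).union ih.1, ?_⟩
      exact isFinite_sup p _ _ (hcl i) ih.1 (hfin i) ih.2
  have h := (key Finset.univ).2
  rwa [Finset.sup_univ_eq_iSup] at h

theorem finite_points {f : X ⟶ S} {g : Y ⟶ S} (T : Scheme.Pullback.Triplet f g)
    (hfin : (f.residueFieldMap T.x).hom.Finite) :
    {w : ↑(pullback f g) | pullback.fst f g w = T.x ∧ pullback.snd f g w = T.y}.Finite := by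
  have h1 : IsFinite (Spec.map (f.residueFieldMap T.x)) := (IsFinite.SpecMap_iff _).2 hfin
  have h2 : IsFinite (Spec.map ((S.residueFieldCongr T.hx).inv ≫ f.residueFieldMap T.x)) := by
    rw [Spec.map_comp]; infer_instance
  have h3 : IsFinite (Spec.map T.tensorInr) :=
    MorphismProperty.of_isPullback T.isPullback_SpecMap_tensor h2
  have : Finite (Spec T.tensor) := by
    rw [← Set.finite_univ_iff]
    convert (Spec.map T.tensorInr).finite_preimage_singleton (IsLocalRing.closedPoint _)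
    ext p
    simp only [Set.mem_univ, Set.mem_preimage, Set.mem_singleton_iff, true_iff]
    exact Subsingleton.elim _ _
  refine (Set.finite_range T.SpecTensorTo).subset ?_
  rintro w ⟨hwx, hwy⟩
  have hT : Scheme.Pullback.Triplet.ofPoint w = T := Scheme.Pullback.Triplet.ext hwx hwy
  exact hT ▸ ⟨_, Scheme.Pullback.SpecTensorTo_SpecOfPoint w⟩

theorem quasiFiniteAt_snd (f : X ⟶ S) [LocallyOfFiniteType f] (g : Y ⟶ S) (w : ↑(pullback f g))
    (hw : f.QuasiFiniteAt (pullback.fst f g w)) : (pullback.snd f g).QuasiFiniteAt w := by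
  obtain ⟨π, hπ, -, -, h⟩ :=
    H46.QFin.baseChange_fibre f g _ _ (IsPullback.of_hasPullback f g) w
  obtain ⟨-, O, hO, hOw⟩ := h hw.isClopen_singleton_asFiber.isClosed
  rw [Scheme.Hom.quasiFiniteAt_iff_isOpen_singleton_asFiber, ← hOw]
  exact hO.inter (hw.isClopen_singleton_asFiber.isOpen.preimage π.continuous)

/-- After an étale neighbourhood, all points over the given quasi-finite points lie in opens
finite over the base, alone in their fibre, with purely inseparable residue extensions. -/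
theorem exists_split (f : X ⟶ S) [LocallyOfFiniteType f] (s : S) {ι : Type} [Finite ι]
    (x : ι → X) (hs : ∀ i, f (x i) = s) (hx : ∀ i, f.QuasiFiniteAt (x i)) :
    ∃ (U : Scheme.{u}) (g : U ⟶ S) (u : U), Etale g ∧ g u = s ∧
      {w : ↑(pullback f g) | pullback.snd f g w = u ∧
        ∃ i, pullback.fst f g w = x i}.Finite ∧
      ∀ w : ↑(pullback f g), pullback.snd f g w = u → (∃ i, pullback.fst f g w = x i) →
        (∃ V : (pullback f g).Opens, w ∈ V ∧ IsFinite (V.ι ≫ pullback.snd f g) ∧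
          ∀ w' : ↑(pullback f g), w' ∈ V → pullback.snd f g w' = u → w' = w) ∧
        (letI := ((pullback.snd f g).residueFieldMap w).hom.toAlgebra
         Module.Finite ↑(U.residueField (pullback.snd f g w)) ↑((pullback f g).residueField w) ∧
         IsPurelyInseparable ↑(U.residueField (pullback.snd f g w))
          ↑((pullback f g).residueField w)) := by
  classical
  have hfin : ∀ i, (f.residueFieldMap (x i)).hom.Finite := fun i =>
    H46.QFin.finite_residueFieldMap f (x i) (hx i).isClopen_singleton_asFiber.isClosed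
  letI alg : ∀ i, Algebra (S.residueField s) (X.residueField (x i)) := fun i =>
    ((S.residueFieldCongr (hs i)).inv ≫ f.residueFieldMap (x i)).hom.toAlgebra
  have : ∀ i, FiniteDimensional (S.residueField s) (X.residueField (x i)) := fun i => by
    show ((S.residueFieldCongr (hs i)).inv ≫ f.residueFieldMap (x i)).hom.Finite
    rw [CommRingCat.hom_comp]
    exact (hfin i).comp (RingHom.Finite.of_surjective _
      (S.residueFieldCongr (hs i)).commRingCatIsoToRingEquiv.symm.surjective)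
  obtain ⟨k, _, _, _, _, hsplit⟩ :=
    PointSplit.exists_splitting_field (S.residueField s) fun i => X.residueField (x i)
  obtain ⟨U₁, g₁, u₁, hu₁, hg₁, e, he, hcomp⟩ :=
    SepExt.exists_etale_nbhd_residueField S s k
  let φ₁ : k →+* U₁.residueField u₁ := (RingEquiv.ofBijective e.hom he).symm.toRingHom
  have hφ₁ : φ₁.comp (algebraMap (S.residueField s) k) =
      ((S.residueFieldCongr hu₁).inv ≫ g₁.residueFieldMap u₁).hom := by
    ext r
    show (RingEquiv.ofBijective e.hom he).symm (algebraMap (S.residueField s) k r) = _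
    rw [RingEquiv.symm_apply_eq]
    exact congr($hcomp r).symm
  let P := {w : ↑(pullback f g₁) | pullback.snd f g₁ w = u₁ ∧
    ∃ i, pullback.fst f g₁ w = x i}
  have hP : P.Finite := by
    refine (Set.finite_iUnion fun i => finite_points
      (⟨x i, u₁, s, hs i, hu₁⟩ : Scheme.Pullback.Triplet f g₁) (hfin i)).subset ?_
    rintro w ⟨hw, i, hi⟩
    exact Set.mem_iUnion.mpr ⟨i, hi, hw⟩
  have := hP.to_subtype
  obtain ⟨n, ⟨ep⟩⟩ := Finite.exists_equiv_fin P
  have hqf : ∀ j, (pullback.snd f g₁).QuasiFiniteAt ((ep.symm j).1) := fun j => by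
    obtain ⟨-, i, hi⟩ := (ep.symm j).2
    exact quasiFiniteAt_snd f g₁ _ (hi.symm ▸ hx i)
  obtain ⟨U₂, g₂, u₂, hu₂, V, v, hv⟩ :=
    S1354.result (pullback.snd f g₁) u₁ (fun j => (ep.symm j).1) (fun j => (ep.symm j).2.1) hqf
  have hinj := (EtaleNbhd.fst_eq_imp_eq_and_residue (pullback.snd f g₁) g₂ u₂
    hu₂.residue_bijective).1
  let E := pullbackLeftPullbackSndIso f g₁ g₂
  have := hu₂.etale
  -- every point over `u₂` and some `x i` is one of the `v j`
  have key : ∀ w : ↑(pullback f (g₂ ≫ g₁)), pullback.snd f (g₂ ≫ g₁) w = u₂ →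
      (∃ i, pullback.fst f (g₂ ≫ g₁) w = x i) → ∃ j, E.inv w = v j := by
    intro w hw hwx
    have hsnd : pullback.snd (pullback.snd f g₁) g₂ (E.inv w) = u₂ := by
      rw [← hw, ← Scheme.Hom.comp_apply, pullbackLeftPullbackSndIso_inv_snd_snd]
    have hP' : pullback.fst (pullback.snd f g₁) g₂ (E.inv w) ∈ P := by
      refine ⟨?_, ?_⟩
      · rw [← hu₂.base_eq, ← hw, ← Scheme.Hom.comp_apply, ← Scheme.Hom.comp_apply,
          pullbackLeftPullbackSndIso_inv_fst_snd, Scheme.Hom.comp_apply]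
      · obtain ⟨i, hi⟩ := hwx
        refine ⟨i, ?_⟩
        rw [← hi, ← Scheme.Hom.comp_apply, ← Scheme.Hom.comp_apply,
          pullbackLeftPullbackSndIso_inv_fst, ]
    refine ⟨ep ⟨_, hP'⟩, hinj _ _ hsnd (hv _).2.2.1 ?_⟩
    rw [(hv _).2.2.2.2.1, Equiv.symm_apply_apply]
  refine ⟨U₂, g₂ ≫ g₁, u₂, inferInstance, ?_, ?_, fun w hw hwx => ⟨?_, ?_⟩⟩
  · rw [Scheme.Hom.comp_apply, hu₂.base_eq, hu₁]
  · refine (Set.finite_range fun j => E.hom (v j)).subset fun w hw => ?_
    obtain ⟨j, hj⟩ := key w hw.1 hw.2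
    exact ⟨j, by
      show E.hom (v j) = w
      rw [← hj, ← Scheme.Hom.comp_apply, E.inv_hom_id]; rfl⟩
  · obtain ⟨j, hj⟩ := key w hw hwx
    obtain ⟨hvV, hVfin, -, huniq, -⟩ := hv j
    refine ⟨E.inv ⁻¹ᵁ V j, by simpa [hj] using hvV, ?_, fun w' hw' hwu => ?_⟩
    · have : (E.inv ⁻¹ᵁ V j).ι ≫ pullback.snd f (g₂ ≫ g₁) =
          (E.inv ∣_ V j) ≫ (V j).ι ≫ pullback.snd (pullback.snd f g₁) g₂ := by
        rw [morphismRestrict_ι_assoc, pullbackLeftPullbackSndIso_inv_snd_snd]
      rw [this]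
      infer_instance
    · refine E.inv.isOpenEmbedding.injective ((huniq _ hw' ?_).trans hj.symm)
      rw [← hwu, ← Scheme.Hom.comp_apply, pullbackLeftPullbackSndIso_inv_snd_snd]
  · obtain ⟨i, hi⟩ := hwx
    subst hw
    have h₁ : g₂ (pullback.snd f (g₂ ≫ g₁) w) = u₁ := hu₂.base_eq
    subst h₁
    have h₀ : f (pullback.fst f (g₂ ≫ g₁) w) = s := by rw [hi]; exact hs i
    refine PointSplit.finite_isPurelyInseparable_snd w s h₀ hu₁ (by rw [hi]; exact hfin i) k
      ((g₂.residueFieldMap (pullback.snd f (g₂ ≫ g₁) w)).hom.comp φ₁) ?_ ?_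
    · rw [RingHom.comp_assoc, hφ₁, Scheme.residueFieldMap_comp]
      rfl
    · clear_value φ₁
      generalize pullback.fst f (g₂ ≫ g₁) w = z at hi h₀
      subst hi
      exact hsplit i

end Groth.Agent.H56.Split
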