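import Groth.Agent.H56.NowhereDense
import Groth.Agent.H56.Split
import Groth.Agent.Lib.AlgSpDecent.GenericFinite
import Mathlib.AlgebraicGeometry.Morphisms.Finite
import Mathlib.AlgebraicGeometry.Morphisms.QuasiFinite

/-!
# Quasi-finite morphisms: images of nowhere dense sets, finiteness over dense opens
-/

set_option autoImplicit false
universe u

open AlgebraicGeometry CategoryTheory Limits TopologicalSpace

namespace Groth.Agent.H56.QFDense

/-- Every nonempty open contains a point without proper generalisations. -/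
theorem exists_minimal {X : Scheme.{u}} {O : Set X} (hO : IsOpen O) (hne : O.Nonempty) :
    ∃ η ∈ O, ∀ y : X, y ⤳ η → y = η := by
  obtain ⟨x, hx⟩ := hne
  obtain ⟨η, hη⟩ := QuasiSober.sober (α := X) (isIrreducible_irreducibleComponent (x := x))
    isClosed_irreducibleComponent
  refine ⟨η, (hη.specializes mem_irreducibleComponent).mem_open hO hx, fun y hy => ?_⟩
  have hle : irreducibleComponent x ⊆ closure {y} := by
    rw [← hη]
    exact closure_minimal (Set.singleton_subset_iff.mpr hy.mem_closure) isClosed_closure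
  have he := eq_irreducibleComponent (isIrreducible_singleton.closure).2 hle
  have : y ⤳ η ∧ η ⤳ y := ⟨hy, specializes_iff_mem_closure.mpr (by
    rw [hη]; rw [← he]; exact subset_closure rfl)⟩
  exact (this.1.antisymm this.2).eq

theorem interior_nonempty_Spec {A C : CommRingCat.{u}} (φ : A ⟶ C) (hφ : φ.hom.Finite)
    [Nontrivial A] (T : Set (Spec C)) (hT : IsClosed T)
    (hd : closure (Spec.map φ '' T) = Set.univ) : (interior T).Nonempty := by
  obtain ⟨J, rfl⟩ := (PrimeSpectrum.isClosed_iff_zeroLocus_ideal T).1 hT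
  let _ : Algebra A C := φ.hom.toAlgebra
  have : Module.Finite A C := hφ
  obtain ⟨c, hc, P, hP⟩ := H56.NowhereDense.exists_interior (A := A) J fun a ha => by
    rw [mem_nilradical, nilpotent_iff_mem_prime]
    intro Q hQ
    have : (⟨Q, hQ⟩ : Spec A) ∈ PrimeSpectrum.zeroLocus ({a} : Set A) := by
      refine closure_minimal ?_ (PrimeSpectrum.isClosed_zeroLocus _)
        (hd.symm ▸ Set.mem_univ _ : (⟨Q, hQ⟩ : Spec A) ∈ _)
      rintro _ ⟨p, hp, rfl⟩
      exact Set.singleton_subset_iff.mpr (hp ha)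
    exact this rfl
  exact ⟨P, interior_maximal (t := (PrimeSpectrum.basicOpen c : Set (PrimeSpectrum C)))
    (fun Q hQ => hc Q hQ) (PrimeSpectrum.basicOpen c).isOpen hP⟩

theorem interior_nonempty_of_isFinite {R V : Scheme.{u}} [IsAffine R] [IsAffine V] [Nonempty V]
    (g : R ⟶ V) [IsFinite g] (T : Set R) (hT : IsClosed T) (hd : closure (g '' T) = Set.univ) :
    (interior T).Nonempty := by
  obtain ⟨φ, hφ⟩ : ∃ φ : Γ(V, ⊤) ⟶ Γ(R, ⊤),
      Spec.map φ = R.isoSpec.inv ≫ g ≫ V.isoSpec.hom := ⟨_, Spec.map_preimage _⟩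
  have hfin : φ.hom.Finite := by
    rw [← IsFinite.SpecMap_iff, hφ]
    infer_instance
  have hnt : Nontrivial Γ(V, ⊤) :=
    PrimeSpectrum.nonempty_iff_nontrivial.mp ⟨V.isoSpec.hom (Classical.arbitrary _)⟩
  obtain ⟨x, hx⟩ := interior_nonempty_Spec φ hfin (R.isoSpec.inv ⁻¹' T)
    (hT.preimage R.isoSpec.inv.continuous) (by
      have e : Spec.map φ '' (R.isoSpec.inv ⁻¹' T) = V.isoSpec.hom '' (g '' T) := by
        rw [hφ]
        ext z
        constructor
        · rintro ⟨a, ha, rfl⟩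
          exact ⟨_, ⟨_, ha, rfl⟩, rfl⟩
        · rintro ⟨_, ⟨a, ha, rfl⟩, rfl⟩
          obtain ⟨b, rfl⟩ := R.isoSpec.inv.surjective a
          exact ⟨b, ha, rfl⟩
      let h : V ≃ₜ Spec Γ(V, ⊤) := V.isoSpec.hom.homeomorph
      show _ = _
      rw [e, show (V.isoSpec.hom : V → Spec Γ(V, ⊤)) = h from rfl, ← h.image_closure, hd,
        Set.image_univ, h.range_coe])
  rw [← R.isoSpec.inv.isOpenEmbedding.isOpenMap.preimage_interior_eq_interior_preimage
    R.isoSpec.inv.continuous] at hx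
  exact ⟨_, hx⟩

/-- Quasi-finite morphisms of affine schemes: a closed set whose image is dense in a nonempty
open has interior. -/
theorem interior_nonempty {R V : Scheme.{u}} [IsAffine R] [IsAffine V] (g : R ⟶ V)
    [LocallyOfFiniteType g] [LocallyQuasiFinite g] (T : Set R) (hT : IsClosed T)
    {O : Set V} (hO : IsOpen O) (hne : O.Nonempty) (hd : O ⊆ closure (g '' T)) :
    (interior T).Nonempty := by
  obtain ⟨η, hη, hmin⟩ := exists_minimal hO hne
  obtain ⟨_, ⟨U, hU, rfl⟩, hηU, hUO⟩ := V.isBasis_affineOpens.exists_subset_of_mem_open hη hO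
  obtain ⟨D, hD, hηD, hDU, hfin⟩ := Lib.AlgSpDecent.GenericFinite.exists_isFinite_of_isAffine
    g hU (hU.preimage g) hηU hmin
  have : IsAffine (D : Scheme.{u}) := hD
  have : IsAffine (g ⁻¹ᵁ D : Scheme.{u}) := hD.preimage g
  have : Nonempty (D : Scheme.{u}) := ⟨⟨η, hηD⟩⟩
  obtain ⟨x, hx⟩ := interior_nonempty_of_isFinite (g ∣_ D) ((g ⁻¹ᵁ D).ι ⁻¹' T)
    (hT.preimage (g ⁻¹ᵁ D).ι.continuous) (by
      refine Set.eq_univ_of_forall fun z => ?_
      rw [D.ι.isOpenEmbedding.isInducing.closure_eq_preimage_closure_image]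
      have hz : D.ι z ∈ (D : Set V) ∩ closure (g '' T) := ⟨z.2, hd (hUO (hDU z.2))⟩
      refine closure_mono ?_ (D.isOpen.inter_closure hz)
      rintro _ ⟨hw, t, ht, rfl⟩
      refine ⟨(g ∣_ D) ⟨t, hw⟩, ⟨⟨t, hw⟩, ht, rfl⟩, ?_⟩
      exact congr($(morphismRestrict_ι g D) ⟨t, hw⟩))
  rw [← (g ⁻¹ᵁ D).ι.isOpenEmbedding.isOpenMap.preimage_interior_eq_interior_preimage
    (g ⁻¹ᵁ D).ι.continuous] at hx
  exact ⟨_, hx⟩

theorem exists_open_subset_of_iUnion {X ι : Type*} [TopologicalSpace X] (s : Finset ι)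
    (C : ι → Set X) (hC : ∀ i, IsClosed (C i)) {O : Set X} (hO : IsOpen O) (hne : O.Nonempty)
    (hsub : O ⊆ ⋃ i ∈ s, C i) : ∃ i ∈ s, ∃ O' ⊆ O, IsOpen O' ∧ O'.Nonempty ∧ O' ⊆ C i := by
  classical
  induction s using Finset.induction_on generalizing O with
  | empty => simp only [Finset.notMem_empty, Set.iUnion_of_empty, Set.iUnion_empty] at hsub
             exact absurd (hsub hne.some_mem) id
  | insert a s ha ih =>
    by_cases h : O ⊆ C a
    · exact ⟨a, Finset.mem_insert_self a s, O, subset_rfl, hO, hne, h⟩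
    · obtain ⟨x, hx, hxa⟩ := Set.not_subset.mp h
      obtain ⟨i, hi, O', hO', h1⟩ := ih (hO.sdiff (hC a)) ⟨x, hx, hxa⟩ (by
        rintro y ⟨hy, hya⟩
        obtain ⟨i, hi, hyi⟩ := Set.mem_iUnion₂.mp (hsub hy)
        exact Set.mem_iUnion₂.mpr
          ⟨i, (Finset.mem_insert.mp hi).resolve_left (fun e => hya (e ▸ hyi)), hyi⟩)
      exact ⟨i, Finset.mem_insert_of_mem hi, O', hO'.trans Set.sdiff_subset, h1⟩

/-- Quasi-finite morphisms map closed nowhere dense sets to nowhere dense sets. -/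
theorem isNowhereDense_image {Y X : Scheme.{u}} (f : Y ⟶ X) [LocallyQuasiFinite f]
    [LocallyOfFiniteType f] [QuasiCompact f] (T : Set Y) (hT : IsClosed T)
    (hT' : interior T = ∅) : interior (closure (f '' T)) = ∅ := by
  classical
  by_contra hne
  obtain ⟨x, hx⟩ := Set.nonempty_iff_ne_empty.mpr hne
  obtain ⟨_, ⟨V, hV, rfl⟩, hxV, hVsub⟩ :=
    X.isBasis_affineOpens.exists_subset_of_mem_open hx isOpen_interior
  change X.Opens at V
  have hc := QuasiCompact.isCompact_preimage (f := f) _ V.isOpen hV.isCompact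
  obtain ⟨W, hW, hWV, hcov⟩ : ∃ W : Y → Y.Opens, (∀ y, IsAffineOpen (W y)) ∧
      (∀ y, W y ≤ f ⁻¹ᵁ V) ∧ ∀ y ∈ f ⁻¹ᵁ V, y ∈ W y := by
    have : ∀ y : Y, ∃ W : Y.Opens, IsAffineOpen W ∧ W ≤ f ⁻¹ᵁ V ∧ (y ∈ f ⁻¹ᵁ V → y ∈ W) := by
      intro y
      by_cases hy : y ∈ f ⁻¹ᵁ V
      · obtain ⟨_, ⟨W, hW, rfl⟩, hyW, hWs⟩ :=
          Y.isBasis_affineOpens.exists_subset_of_mem_open hy (f ⁻¹ᵁ V).isOpen
        exact ⟨W, hW, hWs, fun _ => hyW⟩
      · exact ⟨⊥, isAffineOpen_bot Y, bot_le, fun h => absurd h hy⟩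
    choose W h1 h2 h3 using this
    exact ⟨W, h1, h2, h3⟩
  obtain ⟨s, hs⟩ := hc.elim_finite_subcover (fun y => (W y : Set Y)) (fun y => (W y).isOpen)
    fun y hy => Set.mem_iUnion.mpr ⟨y, hcov y hy⟩
  have hsub : (V : Set X) ⊆ ⋃ y ∈ s, closure (f '' (T ∩ W y)) := by
    intro z hz
    have hcl : IsClosed (⋃ y ∈ s, closure (f '' (T ∩ W y))) :=
      isClosed_biUnion_finset fun _ _ => isClosed_closure
    refine closure_minimal ?_ hcl (V.isOpen.inter_closure ⟨hz, interior_subset (hVsub hz)⟩)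
    rintro _ ⟨hw, t, ht, rfl⟩
    obtain ⟨y, hy, hty⟩ := Set.mem_iUnion₂.mp (hs hw)
    exact Set.mem_iUnion₂.mpr ⟨y, hy, subset_closure ⟨t, ⟨ht, hty⟩, rfl⟩⟩
  obtain ⟨y, -, O, hOV, hO, hOne, hOsub⟩ :=
    exists_open_subset_of_iUnion s _ (fun _ => isClosed_closure) V.isOpen ⟨x, hxV⟩ hsub
  have : IsAffine (V : Scheme.{u}) := hV
  have : IsAffine (W y : Scheme.{u}) := hW y
  let g := f.resLE V (W y) (hWV y)
  have hg : g ≫ V.ι = (W y).ι ≫ f := Scheme.Hom.resLE_comp_ι f (hWV y)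
  have : LocallyOfFiniteType g := by
    have : LocallyOfFiniteType (g ≫ V.ι) := by rw [hg]; infer_instance
    exact locallyOfFiniteType_of_comp g V.ι
  have : LocallyQuasiFinite g := by
    have : LocallyQuasiFinite (g ≫ V.ι) := by rw [hg]; infer_instance
    exact LocallyQuasiFinite.of_comp g V.ι
  obtain ⟨w, hw⟩ := interior_nonempty g ((W y).ι ⁻¹' T) (hT.preimage (W y).ι.continuous)
    (hO.preimage V.ι.continuous) (by
      obtain ⟨z, hz⟩ := hOne
      exact ⟨⟨z, hOV hz⟩, hz⟩) (by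
      intro z hz
      rw [V.ι.isOpenEmbedding.isInducing.closure_eq_preimage_closure_image]
      refine closure_mono ?_ (hOsub hz)
      rintro _ ⟨t, ⟨ht, htW⟩, rfl⟩
      exact ⟨g ⟨t, htW⟩, ⟨⟨t, htW⟩, ht, rfl⟩, congr($hg ⟨t, htW⟩)⟩)
  rw [← (W y).ι.isOpenEmbedding.isOpenMap.preimage_interior_eq_interior_preimage
    (W y).ι.continuous, hT'] at hw
  exact hw

end Groth.Agent.H56.QFDense
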